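import Mathlib

/-!
The numerical bound for the class numbers of the orthogonal groups in even dimension.
-/

set_option autoImplicit false

namespace CfsgLib.OClassNum

/-- The factor of the index `i + 2`, with `x ^ 2 = y`. -/
noncomputable def fac (x y : ℝ) (i : ℕ) : ℝ :=
  ((1 + x ^ (2 * i + 3)) / (1 - x ^ (2 * i + 3))) ^ 2 * (1 - y ^ (i + 1))⁻¹

/-- The factor of the index `i + 2` for data without blocks of odd size. -/
noncomputable def fac' (y : ℝ) (i : ℕ) : ℝ := (1 - y ^ (i + 1))⁻¹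

/-- The correction at the index `3`. -/
noncomputable def corr (y : ℝ) (m : ℕ) : ℝ := if 2 ≤ m then (1 - y ^ 3) ^ 2 else 1

/-- An upper bound for `√(1/3)`. -/
noncomputable def c0 : ℝ := 5774 / 10000

theorem c0_le : c0 ≤ 3 / 5 := by norm_num [c0]

theorem c0_nonneg : 0 ≤ c0 := by norm_num [c0]

theorem fac_mono {x y : ℝ} (hx : 0 ≤ x) (hxc : x ≤ c0) (hy : 0 ≤ y) (hy3 : y ≤ 1 / 3) (i : ℕ) :
    0 ≤ fac x y i ∧ fac x y i ≤ fac c0 (1 / 3) i ∧ 0 ≤ fac' y i ∧ fac' y i ≤ fac' (1 / 3) i := by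
  have a1 := pow_le_pow_left₀ hx hxc (2 * i + 3)
  have a2 : c0 ^ (2 * i + 3) < 1 := pow_lt_one₀ c0_nonneg (by linarith [c0_le]) (by omega)
  have a3 : 0 ≤ x ^ (2 * i + 3) := pow_nonneg hx _
  have b1 := pow_le_pow_left₀ hy hy3 (i + 1)
  have b2 : (1 / 3 : ℝ) ^ (i + 1) < 1 := pow_lt_one₀ (by norm_num) (by norm_num) (by omega)
  have h0 : 0 ≤ (1 + x ^ (2 * i + 3)) / (1 - x ^ (2 * i + 3)) := div_nonneg (by linarith) (by linarith)
  have h1 : (1 + x ^ (2 * i + 3)) / (1 - x ^ (2 * i + 3)) ≤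
      (1 + c0 ^ (2 * i + 3)) / (1 - c0 ^ (2 * i + 3)) :=
    div_le_div₀ (by linarith) (by linarith) (by linarith) (by linarith)
  have g0 : 0 ≤ (1 - y ^ (i + 1))⁻¹ := inv_nonneg.2 (by linarith)
  have g1 : (1 - y ^ (i + 1))⁻¹ ≤ (1 - (1 / 3 : ℝ) ^ (i + 1))⁻¹ := inv_anti₀ (by linarith) (by linarith)
  exact ⟨mul_nonneg (sq_nonneg _) g0, mul_le_mul (pow_le_pow_left₀ h0 h1 2) g1 g0 (sq_nonneg _), g0, g1⟩

theorem one_le_fac (i : ℕ) : 1 ≤ fac' (1 / 3) i ∧ 1 ≤ fac c0 (1 / 3) i := by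
  have a2 : c0 ^ (2 * i + 3) < 1 := pow_lt_one₀ c0_nonneg (by linarith [c0_le]) (by omega)
  have a3 : 0 ≤ c0 ^ (2 * i + 3) := pow_nonneg c0_nonneg _
  have b2 : (1 / 3 : ℝ) ^ (i + 1) < 1 := pow_lt_one₀ (by norm_num) (by norm_num) (by omega)
  have b3 : 0 ≤ (1 / 3 : ℝ) ^ (i + 1) := by positivity
  have g : 1 ≤ (1 - (1 / 3 : ℝ) ^ (i + 1))⁻¹ := (one_le_inv₀ (by linarith)).2 (by linarith)
  exact ⟨g, one_le_mul_of_one_le_of_one_le (one_le_pow₀ ((one_le_div (by linarith)).2 (by linarith))) g⟩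

theorem fac_step (i : ℕ) : fac c0 (1 / 3) (i + 7) * (1 + 2 * (2 / 5 : ℝ) ^ (i + 8)) ≤
    1 + 2 * (2 / 5 : ℝ) ^ (i + 7) := by
  set r : ℝ := (2 / 5 : ℝ) ^ (i + 8) with hr
  have hr0 : 0 ≤ r := by positivity
  have hr1 : r ≤ 1 / 1000 := le_trans (pow_le_pow_of_le_one (by norm_num) (by norm_num)
    (show 8 ≤ i + 8 by omega)) (by norm_num)
  have hb : (2 / 5 : ℝ) ^ (i + 7) = 5 / 2 * r := by rw [hr, pow_succ _ (i + 7)]; ring
  have ht : c0 ^ (2 * (i + 7) + 3) ≤ 1 / 5 * r := by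
    rw [show 2 * (i + 7) + 3 = 2 * i + 17 by omega, pow_add, pow_mul, hr, pow_add _ i 8,
      show 1 / 5 * ((2 / 5 : ℝ) ^ i * (2 / 5) ^ 8) = (2 / 5 : ℝ) ^ i * (1 / 5 * (2 / 5) ^ 8) by ring]
    exact mul_le_mul (pow_le_pow_left₀ (sq_nonneg _) (by norm_num [c0]) i) (by norm_num [c0])
      (pow_nonneg c0_nonneg _) (by positivity)
  have hy : (1 / 3 : ℝ) ^ (i + 8) ≤ 1 / 4 * r := by
    rw [hr, pow_add, pow_add,
      show 1 / 4 * ((2 / 5 : ℝ) ^ i * (2 / 5) ^ 8) = (2 / 5 : ℝ) ^ i * (1 / 4 * (2 / 5) ^ 8) by ring]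
    exact mul_le_mul (pow_le_pow_left₀ (by norm_num) (by norm_num) i) (by norm_num)
      (by positivity) (by positivity)
  unfold fac
  rw [show i + 7 + 1 = i + 8 by omega, hb]
  set t : ℝ := c0 ^ (2 * (i + 7) + 3)
  set a : ℝ := (1 / 3 : ℝ) ^ (i + 8)
  have ha0 : 0 ≤ a := by positivity
  have ht0 : 0 ≤ t := pow_nonneg c0_nonneg _
  have h1 : (1 + t) / (1 - t) ≤ 1 + 9 / 4 * t := by
    rw [div_le_iff₀ (by linarith)]; nlinarith
  have h2 : (1 - a)⁻¹ ≤ 1 + 11 / 10 * a := by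
    rw [inv_le_iff_one_le_mul₀ (by linarith)]; nlinarith
  have h3 : ((1 + t) / (1 - t)) ^ 2 ≤ 1 + r := by
    refine (pow_le_pow_left₀ (div_nonneg (by linarith) (by linarith)) h1 2).trans ?_
    nlinarith
  calc ((1 + t) / (1 - t)) ^ 2 * (1 - a)⁻¹ * (1 + 2 * r)
      ≤ (1 + r) * (1 + 1 / 3 * r) * (1 + 2 * r) := by
        refine mul_le_mul_of_nonneg_right (mul_le_mul h3 (h2.trans (by linarith))
          (inv_nonneg.2 (by linarith)) (by linarith)) (by linarith)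
    _ ≤ 1 + 2 * (5 / 2 * r) := by nlinarith [mul_nonneg hr0 hr0]

theorem prod_fac_le : ∀ k, (∏ i ∈ Finset.range (k + 7), fac c0 (1 / 3) i) *
    (1 + 2 * (2 / 5 : ℝ) ^ (k + 7)) ≤ 575 / 100
  | 0 => by norm_num [Finset.prod_range_succ, fac, c0]
  | k + 1 => by
    refine le_trans ?_ (prod_fac_le k)
    rw [show k + 1 + 7 = k + 7 + 1 by omega, Finset.prod_range_succ, mul_assoc,
      show k + 7 + 1 = k + 8 by omega]
    exact mul_le_mul_of_nonneg_left (fac_step k)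
      (Finset.prod_nonneg fun i _ => (fac_mono c0_nonneg le_rfl (by norm_num) le_rfl i).1)

theorem fac'_step (i : ℕ) : fac' (1 / 3) (i + 7) * (1 + (1 / 3 : ℝ) ^ (i + 8)) ≤
    1 + (1 / 3 : ℝ) ^ (i + 7) := by
  set a : ℝ := (1 / 3 : ℝ) ^ (i + 8) with ha
  have ha0 : 0 ≤ a := by positivity
  have ha1 : a ≤ 1 / 1000 := le_trans (pow_le_pow_of_le_one (by norm_num) (by norm_num)
    (show 8 ≤ i + 8 by omega)) (by norm_num)
  have hb : (1 / 3 : ℝ) ^ (i + 7) = 3 * a := by rw [ha, pow_succ _ (i + 7)]; ring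
  unfold fac'
  rw [show i + 7 + 1 = i + 8 by omega, ← ha, hb, inv_mul_le_iff₀ (by linarith)]
  nlinarith

theorem prod_fac'_le : ∀ k, (∏ i ∈ Finset.range (k + 7), fac' (1 / 3) i) *
    (1 + (1 / 3 : ℝ) ^ (k + 7)) ≤ 180 / 100
  | 0 => by norm_num [Finset.prod_range_succ, fac']
  | k + 1 => by
    refine le_trans ?_ (prod_fac'_le k)
    rw [show k + 1 + 7 = k + 7 + 1 by omega, Finset.prod_range_succ, mul_assoc,
      show k + 7 + 1 = k + 8 by omega]
    exact mul_le_mul_of_nonneg_left (fac'_step k)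
      (Finset.prod_nonneg fun i _ => le_trans zero_le_one (one_le_fac i).1)

theorem prod_le_limit {f : ℕ → ℝ} (h1 : ∀ i, 1 ≤ f i) {C : ℝ}
    (h : ∀ k, ∏ i ∈ Finset.range (k + 7), f i ≤ C) (m : ℕ) : ∏ i ∈ Finset.range m, f i ≤ C :=
  le_trans (Finset.prod_le_prod_of_subset_of_one_le (Finset.range_subset_range.2 (by omega))
    (fun i _ => le_trans zero_le_one (h1 i)) (fun i _ _ => h1 i)) (h m)

theorem corr_le {y : ℝ} (hy : 0 ≤ y) (hy3 : y ≤ 1 / 3) :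
    (1 - y ^ 3) ^ 2 * (1 - (1 / 3 : ℝ) ^ 2) ≤ (26 / 27) ^ 2 * (1 - y ^ 2) := by
  have h6 : y ^ 6 ≤ 1 / 27 * y ^ 3 := by
    have : y ^ 3 ≤ (1 / 3) ^ 3 := pow_le_pow_left₀ hy hy3 3
    nlinarith [pow_nonneg hy 3]
  nlinarith [mul_nonneg hy (sub_nonneg.2 hy3), mul_nonneg (mul_nonneg hy hy) (sub_nonneg.2 hy3)]

/-- The bound. -/
theorem bound {x y : ℝ} (hx : 0 ≤ x) (hxy : x ^ 2 = y) (hy3 : y ≤ 1 / 3) (m : ℕ) :
    ((1 + 6 * y + y ^ 2) * ∏ i ∈ Finset.range m, fac x y i + ∏ i ∈ Finset.range m, fac' y i) *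
      corr y m ≤ 19 := by
  have hy : 0 ≤ y := hxy ▸ sq_nonneg x
  have hxc : x ≤ c0 := by
    by_contra h
    push Not at h
    have : c0 ^ 2 < x ^ 2 := pow_lt_pow_left₀ h c0_nonneg two_ne_zero
    rw [hxy] at this
    norm_num [c0] at this
    linarith
  set A : ℝ := 1 + 6 * y + y ^ 2
  have hA : A ≤ 28 / 9 := by
    have : y ^ 2 ≤ (1 / 3) ^ 2 := pow_le_pow_left₀ hy hy3 2
    norm_num at this ⊢
    linarith
  have hA0 : 0 ≤ A := by positivity
  have n1 : ∀ i, 0 ≤ fac x y i := fun i => (fac_mono hx hxc hy hy3 i).1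
  have n2 : ∀ i, 0 ≤ fac' y i := fun i => (fac_mono hx hxc hy hy3 i).2.2.1
  have u1 : ∀ s : Finset ℕ, ∏ i ∈ s, fac x y i ≤ ∏ i ∈ s, fac c0 (1 / 3) i := fun s =>
    Finset.prod_le_prod (fun i _ => n1 i) fun i _ => (fac_mono hx hxc hy hy3 i).2.1
  have u2 : ∀ s : Finset ℕ, ∏ i ∈ s, fac' y i ≤ ∏ i ∈ s, fac' (1 / 3) i := fun s =>
    Finset.prod_le_prod (fun i _ => n2 i) fun i _ => (fac_mono hx hxc hy hy3 i).2.2.2
  unfold corr
  split_ifs with hm
  · -- the factor of the index three absorbs the correction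
    have hmem : 1 ∈ Finset.range m := Finset.mem_range.2 (by omega)
    rw [← Finset.mul_prod_erase _ _ hmem, ← Finset.mul_prod_erase _ (fun i => fac' y i) hmem]
    have k2 : fac' y 1 * (1 - y ^ 3) ^ 2 ≤ fac' (1 / 3) 1 * (26 / 27) ^ 2 := by
      have := corr_le hy hy3
      have hy2 : y ^ 2 ≤ (1 / 3) ^ 2 := pow_le_pow_left₀ hy hy3 2
      unfold fac'
      norm_num at hy2 this ⊢
      rw [inv_mul_le_iff₀ (by linarith)]
      linarith
    have k1 : fac x y 1 * (1 - y ^ 3) ^ 2 ≤ fac c0 (1 / 3) 1 * (26 / 27) ^ 2 := by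
      have e : ∀ x y : ℝ, fac x y 1 = ((1 + x ^ 5) / (1 - x ^ 5)) ^ 2 * fac' y 1 := fun x y => rfl
      rw [e, e, mul_assoc, mul_assoc]
      have a1 := pow_le_pow_left₀ hx hxc 5
      have a2 : c0 ^ 5 < 1 := pow_lt_one₀ c0_nonneg (by linarith [c0_le]) (by omega)
      have a3 : 0 ≤ x ^ 5 := pow_nonneg hx _
      exact mul_le_mul (pow_le_pow_left₀ (div_nonneg (by linarith) (by linarith))
        (div_le_div₀ (by linarith) (by linarith) (by linarith) (by linarith)) 2) k2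
        (mul_nonneg (n2 1) (sq_nonneg _)) (sq_nonneg _)
    have p1 : (fac c0 (1 / 3) 1 * (26 / 27) ^ 2) * ∏ i ∈ (Finset.range m).erase 1, fac c0 (1 / 3) i ≤
        575 / 100 * (26 / 27) ^ 2 := by
      rw [mul_right_comm, Finset.mul_prod_erase _ _ hmem]
      refine mul_le_mul_of_nonneg_right (prod_le_limit (fun i => (one_le_fac i).2) (fun k => ?_) m)
        (by norm_num)
      exact le_trans (le_mul_of_one_le_right (Finset.prod_nonneg fun i _ =>
        le_trans zero_le_one (one_le_fac i).2) (le_add_of_nonneg_right (by positivity))) (prod_fac_le k)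
    have p2 : (fac' (1 / 3) 1 * (26 / 27) ^ 2) * ∏ i ∈ (Finset.range m).erase 1, fac' (1 / 3) i ≤
        180 / 100 * (26 / 27) ^ 2 := by
      rw [mul_right_comm, Finset.mul_prod_erase _ _ hmem]
      refine mul_le_mul_of_nonneg_right (prod_le_limit (fun i => (one_le_fac i).1) (fun k => ?_) m)
        (by norm_num)
      exact le_trans (le_mul_of_one_le_right (Finset.prod_nonneg fun i _ =>
        le_trans zero_le_one (one_le_fac i).1) (le_add_of_nonneg_right (by positivity))) (prod_fac'_le k)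
    have q1 : (fac x y 1 * (1 - y ^ 3) ^ 2) * ∏ i ∈ (Finset.range m).erase 1, fac x y i ≤
        575 / 100 * (26 / 27) ^ 2 :=
      le_trans (mul_le_mul k1 (u1 _) (Finset.prod_nonneg fun i _ => n1 i)
        (le_trans (mul_nonneg (n1 1) (sq_nonneg _)) k1)) p1
    have q2 : (fac' y 1 * (1 - y ^ 3) ^ 2) * ∏ i ∈ (Finset.range m).erase 1, fac' y i ≤
        180 / 100 * (26 / 27) ^ 2 :=
      le_trans (mul_le_mul k2 (u2 _) (Finset.prod_nonneg fun i _ => n2 i)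
        (le_trans (mul_nonneg (n2 1) (sq_nonneg _)) k2)) p2
    have q1' := mul_le_mul hA q1 (mul_nonneg (mul_nonneg (n1 1) (sq_nonneg _))
      (Finset.prod_nonneg fun i _ => n1 i)) (by norm_num)
    calc _ = A * (fac x y 1 * (1 - y ^ 3) ^ 2 * ∏ i ∈ (Finset.range m).erase 1, fac x y i) +
          fac' y 1 * (1 - y ^ 3) ^ 2 * ∏ i ∈ (Finset.range m).erase 1, fac' y i := by ring
      _ ≤ 28 / 9 * (575 / 100 * (26 / 27) ^ 2) + 180 / 100 * (26 / 27) ^ 2 := add_le_add q1' q2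
      _ ≤ 19 := by norm_num
  · rw [mul_one]
    have hm1 : Finset.range m ⊆ Finset.range 1 := Finset.range_subset_range.2 (by omega)
    have r1 := (u1 (Finset.range m)).trans (Finset.prod_le_prod_of_subset_of_one_le hm1
      (fun i _ => le_trans zero_le_one (one_le_fac i).2) fun i _ _ => (one_le_fac i).2)
    have r2 := (u2 (Finset.range m)).trans (Finset.prod_le_prod_of_subset_of_one_le hm1
      (fun i _ => le_trans zero_le_one (one_le_fac i).1) fun i _ _ => (one_le_fac i).1)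
    refine le_trans (add_le_add (mul_le_mul hA r1 (Finset.prod_nonneg fun i _ => n1 i) (by norm_num)) r2) ?_
    norm_num [Finset.prod_range_succ, fac, fac', c0]

end CfsgLib.OClassNum
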