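import Cfsg.Agent.Lib.SpClassNum.Count
import Cfsg.Agent.Lib.OClassNum.Numeric

/-!
The weighted count of the data of classes of the orthogonal groups in even dimension.
-/

set_option autoImplicit false

namespace CfsgLib.OClassNum

open Finset CfsgLib.SpClassNum

/-- The number of signs of a multiplicity. -/
def sc (e : ℕ) : ℕ := if e = 0 then 1 else 2

/-- The weight of the first index, in half units. -/
def wT (q T : ℕ) : ℕ := ∑ d ∈ range (T / 2 + 1), cnt q d * e2 (T - 2 * d)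

theorem wT_even {q : ℕ} (hq : 2 ≤ q) (s : ℕ) :
    (wT q (2 * s + 4) : ℝ) = ((q : ℝ) ^ 2 + 6 * q + 1) * (q : ℝ) ^ s := by
  have h := sum_pow_mul_sub (q : ℝ) s
  rw [wT, show (2 * s + 4) / 2 + 1 = s + 1 + 1 + 1 by omega, sum_range_succ, sum_range_succ', sum_range_succ']
  simp only [Nat.cast_add, Nat.cast_sum, Nat.cast_mul]
  have e : ∀ e ∈ range s, (cnt q (e + 1 + 1) : ℝ) * (e2 (2 * s + 4 - 2 * (e + 1 + 1)) : ℝ) =
      (8 * ((q : ℝ) - 1) ^ 2) * ((q : ℝ) ^ e * ((s : ℝ) - e)) := by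
    intro e he
    have he' := mem_range.1 he
    rw [show 2 * s + 4 - 2 * (e + 1 + 1) = 2 * (s - e) by omega, e2, if_neg (by omega), cnt]
    push_cast [Nat.cast_sub (show 1 ≤ q by omega), Nat.cast_sub he'.le]
    ring
  rw [sum_congr rfl e, ← mul_sum, show 2 * s + 4 - 2 * (0 + 1) = 2 * s + 2 by omega, Nat.mul_zero,
    Nat.sub_zero, show 2 * s + 4 - 2 * (s + 1 + 1) = 0 by omega]
  simp only [cnt, e2, if_neg (Nat.succ_ne_zero _), if_pos]
  push_cast [Nat.cast_sub (show 1 ≤ q by omega), Nat.cast_sub hq]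
  rw [pow_succ] at h
  linear_combination 8 * h

theorem wT_odd {q : ℕ} (hq : 2 ≤ q) (s : ℕ) :
    (wT q (2 * s + 3) : ℝ) = 4 * ((q : ℝ) + 1) * (q : ℝ) ^ s := by
  have h := sum_pow_mul_sub (q : ℝ) s
  have g := geom_sum_mul (q : ℝ) s
  rw [wT, show (2 * s + 3) / 2 + 1 = s + 1 + 1 by omega, sum_range_succ', sum_range_succ']
  simp only [Nat.cast_add, Nat.cast_sum, Nat.cast_mul]
  have e : ∀ e ∈ range s, (cnt q (e + 1 + 1) : ℝ) * (e2 (2 * s + 3 - 2 * (e + 1 + 1)) : ℝ) =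
      (8 * ((q : ℝ) - 1) ^ 2) * ((q : ℝ) ^ e * ((s : ℝ) - e)) - 4 * ((q : ℝ) - 1) ^ 2 * (q : ℝ) ^ e := by
    intro e he
    have he' := mem_range.1 he
    rw [e2, if_neg (by omega), cnt, show 2 * s + 3 - 2 * (e + 1 + 1) = 2 * (s - e - 1) + 1 by omega]
    push_cast [Nat.cast_sub (show 1 ≤ q by omega), Nat.cast_sub he'.le,
      Nat.cast_sub (show 1 ≤ s - e by omega)]
    ring
  rw [sum_congr rfl e, sum_sub_distrib, ← mul_sum, ← mul_sum,
    show 2 * s + 3 - 2 * (0 + 1) = 2 * s + 1 by omega, Nat.mul_zero, Nat.sub_zero]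
  simp only [cnt, e2, if_neg (Nat.succ_ne_zero _)]
  push_cast [Nat.cast_sub (show 1 ≤ q by omega), Nat.cast_sub hq]
  rw [pow_succ] at h
  linear_combination 8 * h - 4 * ((q : ℝ) - 1) * g

theorem wT_le {q : ℕ} (hq : 2 ≤ q) {x : ℝ} (hx : 0 ≤ x) (hxq : (q : ℝ) * x ^ 2 = 1) (T : ℕ) :
    (wT q T : ℝ) * x ^ T ≤ 1 + 6 * x ^ 2 + (x ^ 2) ^ 2 := by
  have h4 : 4 * x * (1 + x ^ 2) ≤ 1 + 6 * x ^ 2 + (x ^ 2) ^ 2 := by
    nlinarith [mul_nonneg (sq_nonneg (1 - x)) (sq_nonneg (1 - x))]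
  rcases Nat.even_or_odd' T with ⟨k, rfl | rfl⟩
  · rcases k with _ | _ | s
    · simp [wT, cnt, e2]; nlinarith [sq_nonneg x]
    · have : wT q 2 = q + 6 := by simp [wT, cnt, e2, sum_range_succ]; omega
      rw [show 2 * (0 + 1) = 2 from rfl, this]
      push_cast
      nlinarith [sq_nonneg (x ^ 2)]
    · rw [show 2 * (s + 1 + 1) = 2 * s + 4 by omega, wT_even hq, pow_add, pow_mul]
      refine le_of_eq ?_
      calc ((q : ℝ) ^ 2 + 6 * q + 1) * (q : ℝ) ^ s * ((x ^ 2) ^ s * x ^ 4)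
          = (((q : ℝ) * x ^ 2) ^ 2 + 6 * ((q : ℝ) * x ^ 2) * x ^ 2 + (x ^ 2) ^ 2) *
              ((q : ℝ) * x ^ 2) ^ s := by rw [mul_pow]; ring
        _ = _ := by rw [hxq, one_pow, one_pow]; ring
  · rcases k with _ | s
    · have : wT q 1 = 4 := by simp [wT, cnt, e2]
      rw [show 2 * 0 + 1 = 1 from rfl, this]
      push_cast
      nlinarith [mul_nonneg hx (sq_nonneg x)]
    · rw [show 2 * (s + 1) + 1 = 2 * s + 3 by omega, wT_odd hq, pow_add, pow_mul]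
      refine le_of_eq_of_le ?_ h4
      calc 4 * ((q : ℝ) + 1) * (q : ℝ) ^ s * ((x ^ 2) ^ s * x ^ 3)
          = 4 * x * (((q : ℝ) * x ^ 2) + x ^ 2) * ((q : ℝ) * x ^ 2) ^ s := by rw [mul_pow]; ring
        _ = _ := by rw [hxq, one_pow]; ring

theorem cnt_le {q : ℕ} (hq : 2 ≤ q) : ∀ d, cnt q d ≤ q ^ d
  | 0 => le_rfl
  | 1 => by simp [cnt]
  | e + 2 => by
      rw [cnt, pow_add]
      exact Nat.mul_le_mul_left _ (Nat.pow_le_pow_left (by omega) 2)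

theorem sum_cnt_le {q : ℕ} (hq : 2 ≤ q) {X : ℝ} (hX : 0 ≤ X) (hqX : (q : ℝ) * X < 1) (N : ℕ) :
    ∑ d ∈ range N, (cnt q d : ℝ) * X ^ d ≤ (1 - X) ^ 2 / (1 - q * X) := by
  refine le_trans (sum_le_sum_of_subset_of_nonneg
    (range_subset_range.2 (show N ≤ N + 2 by omega)) fun D _ _ => by positivity) ?_
  rw [sum_range_succ', sum_range_succ']
  have e : ∀ d ∈ range N, (cnt q (d + 1 + 1) : ℝ) * X ^ (d + 1 + 1) =
      ((q : ℝ) - 1) ^ 2 * X ^ 2 * ((q : ℝ) * X) ^ d := fun d _ => by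
    rw [cnt, mul_pow]
    push_cast [Nat.cast_sub (show 1 ≤ q by omega)]
    ring
  rw [sum_congr rfl e, ← mul_sum]
  have hg := geom_le (mul_nonneg (Nat.cast_nonneg q) hX) hqX N
  have h2 : ((q : ℝ) - 1) ^ 2 * X ^ 2 * ∑ e ∈ range N, ((q : ℝ) * X) ^ e ≤
      ((q : ℝ) - 1) ^ 2 * X ^ 2 * (1 - q * X)⁻¹ := mul_le_mul_of_nonneg_left hg (by positivity)
  simp only [cnt, show 0 + 1 = 1 from rfl]
  push_cast [Nat.cast_sub hq]
  have hpos : (0 : ℝ) < 1 - q * X := by linarith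
  refine le_of_le_of_eq (add_le_add (add_le_add h2 le_rfl) le_rfl) ?_
  field_simp
  ring

theorem sum_sc_le {t : ℝ} (h0 : 0 ≤ t) (h1 : t < 1) (N : ℕ) :
    ∑ e ∈ range N, (sc e : ℝ) * t ^ e ≤ (1 + t) / (1 - t) := by
  refine le_trans (sum_le_sum_of_subset_of_nonneg
    (range_subset_range.2 (show N ≤ N + 1 by omega)) fun D _ _ => by positivity) ?_
  rw [sum_range_succ']
  have e : ∀ e ∈ range N, (sc (e + 1) : ℝ) * t ^ (e + 1) = 2 * t * t ^ e := fun e _ => by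
    rw [sc, if_neg (Nat.succ_ne_zero _)]; push_cast; ring
  rw [sum_congr rfl e, ← mul_sum, sc, if_pos rfl]
  have hpos : (0 : ℝ) < 1 - t := by linarith
  push_cast
  refine le_of_le_of_eq (add_le_add (mul_le_mul_of_nonneg_left (geom_le h0 h1 N) (by positivity)) le_rfl) ?_
  field_simp
  ring

theorem prod_even_le {y : ℝ} (hy : 0 ≤ y) (hy1 : y < 1) : ∀ m : ℕ,
    ∏ i ∈ range m, (1 - y ^ (i + 2)) ^ 2 ≤
      (∏ k ∈ range ((m + 1) / 2), (1 - y ^ (2 * (k + 1))) ^ 2) * corr y m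
  | 0 => by simp [corr]
  | m + 1 => by
    have h0 : ∀ n : ℕ, (0 : ℝ) ≤ (1 - y ^ n) ^ 2 ∧ (1 - y ^ n) ^ 2 ≤ 1 := fun n => by
      have a := pow_nonneg hy n
      have b := pow_le_one₀ (n := n) hy hy1.le
      exact ⟨sq_nonneg _, pow_le_one₀ (by linarith) (by linarith)⟩
    have ih := prod_even_le hy hy1 m
    rw [prod_range_succ]
    rcases Nat.even_or_odd' m with ⟨c, rfl | rfl⟩
    · -- the new index `2c + 2` is even
      rw [show (2 * c + 1 + 1) / 2 = (2 * c + 1) / 2 + 1 by omega, prod_range_succ,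
        show 2 * ((2 * c + 1) / 2 + 1) = 2 * c + 2 by omega, mul_right_comm]
      refine mul_le_mul_of_nonneg_right (ih.trans_eq ?_) (h0 _).1
      congr 1
      rcases c with _ | c
      · simp [corr]
      · simp [corr, show 2 ≤ 2 * (c + 1) by omega, show 2 ≤ 2 * (c + 1) + 1 by omega]
    · rw [show (2 * c + 1 + 1 + 1) / 2 = (2 * c + 1 + 1) / 2 by omega]
      rcases c with _ | c
      · norm_num [corr, prod_range_succ]
      · refine (mul_le_of_le_one_right (prod_nonneg fun i _ => (h0 _).1) (h0 _).2).trans ?_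
        refine ih.trans (le_of_eq ?_)
        simp [corr, show 2 ≤ 2 * (c + 1) + 1 by omega, show 2 ≤ 2 * (c + 1) + 1 + 1 by omega]

/-- The parameters left after the first index is removed: for each index `i ≥ 2` the two
multiplicities of the odd size and the degree, for each even size half the two multiplicities. -/
abbrev Box (m : ℕ) : Type :=
  (Fin m → Fin (m + 2) × Fin (m + 2) × Fin (m + 2)) × (Fin ((m + 1) / 2) → Fin (m + 2) × Fin (m + 2))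

/-- The weight of the parameters in half units. -/
def bw {m : ℕ} (r : Box m) : ℕ :=
  (∑ i : Fin m, ((2 * (i : ℕ) + 3) * ((r.1 i).1 : ℕ) + (2 * (i : ℕ) + 3) * ((r.1 i).2.1 : ℕ) +
      2 * ((i : ℕ) + 2) * ((r.1 i).2.2 : ℕ))) +
    ∑ k : Fin ((m + 1) / 2), (4 * ((k : ℕ) + 1) * ((r.2 k).1 : ℕ) + 4 * ((k : ℕ) + 1) * ((r.2 k).2 : ℕ))

/-- The boxes with odd multiplicities in a given set. -/
def boxes (m : ℕ) (E : Finset (Fin (m + 2))) : Finset (Box m) :=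
  Fintype.piFinset (fun _ : Fin m => E ×ˢ E ×ˢ (univ : Finset (Fin (m + 2)))) ×ˢ univ

theorem sum_boxes_le {q : ℕ} (hq : 2 ≤ q) {x : ℝ} (hx : 0 ≤ x) (hxq : (q : ℝ) * x ^ 2 = 1) (m : ℕ)
    (E : Finset (Fin (m + 2))) (f : ℕ → ℕ) {A : ℝ} (hA : ∀ T, (f T : ℝ) * x ^ T ≤ A) (G : ℕ → ℝ)
    (hG : ∀ i < m, ∑ e ∈ E, (sc e : ℝ) * (x ^ (2 * i + 3)) ^ (e : ℕ) ≤ G i) :
    ((∑ r ∈ (boxes m E).filter (fun r => bw r ≤ 2 * (m + 1)), f (2 * (m + 1) - bw r) *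
        ∏ i, (sc (r.1 i).1 * sc (r.1 i).2.1 * cnt q (r.1 i).2.2) : ℕ) : ℝ) ≤
      (q : ℝ) ^ (m + 1) * (A * (∏ i ∈ range m, G i ^ 2 * (1 - (x ^ 2) ^ (i + 1))⁻¹) *
        corr (x ^ 2) m) := by
  set y := x ^ 2 with hy
  have hq0 : (0 : ℝ) < q := by exact_mod_cast (show 0 < q by omega)
  have hy0 : 0 ≤ y := sq_nonneg x
  have hy1 : y < 1 := by
    by_contra h
    push Not at h
    have : (2 : ℝ) * 1 ≤ q * y := mul_le_mul (by exact_mod_cast hq) h zero_le_one hq0.le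
    linarith
  have hx1 : x < 1 := by
    by_contra h
    push Not at h
    have : (1 : ℝ) ≤ x ^ 2 := one_le_pow₀ h
    linarith
  have hxn : ∀ T, T ≤ 2 * (m + 1) → (q : ℝ) ^ (m + 1) * x ^ (2 * (m + 1) - T) * x ^ T = 1 := fun T hT => by
    rw [mul_assoc, ← pow_add, Nat.sub_add_cancel hT, pow_mul, ← mul_pow, hxq, one_pow]
  let A1 : Fin m → Fin (m + 2) × Fin (m + 2) × Fin (m + 2) → ℝ := fun i p =>
    ((sc p.1 : ℝ) * (x ^ (2 * (i : ℕ) + 3)) ^ (p.1 : ℕ)) *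
      (((sc p.2.1 : ℝ) * (x ^ (2 * (i : ℕ) + 3)) ^ (p.2.1 : ℕ)) *
        ((cnt q p.2.2 : ℝ) * (y ^ ((i : ℕ) + 2)) ^ (p.2.2 : ℕ)))
  let A2 : Fin ((m + 1) / 2) → Fin (m + 2) × Fin (m + 2) → ℝ := fun k p =>
    (y ^ (2 * ((k : ℕ) + 1))) ^ (p.1 : ℕ) * (y ^ (2 * ((k : ℕ) + 1))) ^ (p.2 : ℕ)
  have hA1 : ∀ i p, 0 ≤ A1 i p := fun i p => by positivity
  have hA2 : ∀ k p, 0 ≤ A2 k p := fun k p => by positivity
  have hA0 : 0 ≤ A := le_trans (by positivity) (hA 0)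
  have hterm : ∀ r ∈ (boxes m E).filter (fun r => bw r ≤ 2 * (m + 1)),
      ((f (2 * (m + 1) - bw r) * ∏ i, (sc (r.1 i).1 * sc (r.1 i).2.1 * cnt q (r.1 i).2.2) : ℕ) : ℝ) ≤
        (q : ℝ) ^ (m + 1) * A * ((∏ i, A1 i (r.1 i)) * ∏ k, A2 k (r.2 k)) := by
    intro r hr
    have hr' := (mem_filter.1 hr).2
    set T := 2 * (m + 1) - bw r
    have hT : bw r = 2 * (m + 1) - T := by omega
    have hf : (f T : ℝ) ≤ (q : ℝ) ^ (m + 1) * A * x ^ bw r := by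
      calc (f T : ℝ) = (q : ℝ) ^ (m + 1) * x ^ bw r * ((f T : ℝ) * x ^ T) := by
            rw [show (q : ℝ) ^ (m + 1) * x ^ bw r * ((f T : ℝ) * x ^ T) =
              (q : ℝ) ^ (m + 1) * x ^ bw r * x ^ T * f T by ring, hT, hxn T (by omega), one_mul]
        _ ≤ (q : ℝ) ^ (m + 1) * x ^ bw r * A := mul_le_mul_of_nonneg_left (hA T) (by positivity)
        _ = _ := by ring
    push_cast
    refine (mul_le_mul_of_nonneg_right hf (by positivity)).trans (le_of_eq ?_)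
    rw [bw, pow_add x, ← prod_pow_eq_pow_sum, ← prod_pow_eq_pow_sum]
    simp only [A1, A2, hy, pow_add, pow_mul, prod_mul_distrib]
    ring_nf
  rw [Nat.cast_sum]
  refine (sum_le_sum hterm).trans ?_
  refine (sum_le_sum_of_subset_of_nonneg (filter_subset _ _) fun r _ _ => mul_nonneg (by positivity)
    (mul_nonneg (prod_nonneg fun i _ => hA1 _ _) (prod_nonneg fun i _ => hA2 _ _))).trans ?_
  rw [← mul_sum, mul_assoc, mul_assoc]
  refine mul_le_mul_of_nonneg_left (mul_le_mul_of_nonneg_left ?_ hA0) (by positivity)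
  simp only [boxes, sum_product, ← mul_sum, ← sum_mul]
  rw [← Fintype.prod_sum, ← prod_univ_sum]
  simp only [sum_product, A1, A2, ← mul_sum, ← sum_mul]
  have b1 : ∀ i : Fin m, (∑ e ∈ E, (sc e : ℝ) * (x ^ (2 * (i : ℕ) + 3)) ^ (e : ℕ)) *
      ((∑ e ∈ E, (sc e : ℝ) * (x ^ (2 * (i : ℕ) + 3)) ^ (e : ℕ)) *
        ∑ d : Fin (m + 2), (cnt q d : ℝ) * (y ^ ((i : ℕ) + 2)) ^ (d : ℕ)) ≤
      (G i ^ 2 * (1 - y ^ ((i : ℕ) + 1))⁻¹) * (1 - y ^ ((i : ℕ) + 2)) ^ 2 := fun i => by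
    have hqX : (q : ℝ) * y ^ ((i : ℕ) + 2) = y ^ ((i : ℕ) + 1) := by
      rw [pow_succ' _ ((i : ℕ) + 1), ← mul_assoc, hxq, one_mul]
    have hlt := pow_lt_one₀ hy0 hy1 (show (i : ℕ) + 1 ≠ 0 by omega)
    have hS := sum_cnt_le hq (pow_nonneg hy0 ((i : ℕ) + 2)) (hqX.symm ▸ hlt) (m + 2)
    rw [hqX] at hS
    have hS' : ∑ d : Fin (m + 2), (cnt q d : ℝ) * (y ^ ((i : ℕ) + 2)) ^ (d : ℕ) ≤ _ :=
      le_of_eq_of_le (Fin.sum_univ_eq_sum_range
        (fun d => (cnt q d : ℝ) * (y ^ ((i : ℕ) + 2)) ^ d) (m + 2)) hS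
    have hE0 : 0 ≤ ∑ e ∈ E, (sc e : ℝ) * (x ^ (2 * (i : ℕ) + 3)) ^ (e : ℕ) :=
      sum_nonneg fun e _ => by positivity
    have hG0 : 0 ≤ G i := hE0.trans (hG i i.2)
    refine le_of_le_of_eq (mul_le_mul (hG i i.2) (mul_le_mul (hG i i.2) hS'
      (sum_nonneg fun e _ => by positivity) hG0) (mul_nonneg hE0 (sum_nonneg fun e _ => by positivity)) hG0) ?_
    rw [div_eq_mul_inv]
    ring
  have b2 : ∀ k : Fin ((m + 1) / 2),
      (∑ p : Fin (m + 2), (y ^ (2 * ((k : ℕ) + 1))) ^ (p : ℕ)) *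
        ∑ p : Fin (m + 2), (y ^ (2 * ((k : ℕ) + 1))) ^ (p : ℕ) ≤
      ((1 - y ^ (2 * ((k : ℕ) + 1))) ^ 2)⁻¹ := fun k => by
    have h := le_of_eq_of_le (Fin.sum_univ_eq_sum_range (fun p => (y ^ (2 * ((k : ℕ) + 1))) ^ p) (m + 2))
      (geom_le (pow_nonneg hy0 _) (pow_lt_one₀ hy0 hy1 (by omega)) _)
    rw [← inv_pow, sq]
    exact mul_le_mul h h (sum_nonneg fun e _ => by positivity)
      (le_trans (sum_nonneg fun e _ => by positivity) h)
  simp only [univ_product_univ, Fintype.sum_prod_type, ← mul_sum, ← sum_mul] at *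
  refine (mul_le_mul (prod_le_prod (fun i _ => by positivity) fun i _ => b1 i)
    (prod_le_prod (fun k _ => by positivity) fun k _ => b2 k) (by positivity) ?_).trans ?_
  · exact le_trans (by positivity) (prod_le_prod (fun i _ => by positivity) fun i _ => b1 i)
  rw [prod_mul_distrib, Fin.prod_univ_eq_prod_range (fun i => G i ^ 2 * (1 - y ^ (i + 1))⁻¹),
    Fin.prod_univ_eq_prod_range (fun i => (1 - y ^ (i + 2)) ^ 2),
    Fin.prod_univ_eq_prod_range (fun k => ((1 - y ^ (2 * (k + 1))) ^ 2)⁻¹), mul_assoc]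
  have hG0 : ∀ i ∈ range m, 0 ≤ G i ^ 2 * (1 - y ^ (i + 1))⁻¹ := fun i _ =>
    mul_nonneg (sq_nonneg _) (inv_nonneg.2 (by have := pow_lt_one₀ hy0 hy1 (show i + 1 ≠ 0 by omega); linarith))
  refine mul_le_mul_of_nonneg_left ?_ (prod_nonneg hG0)
  have hpos : 0 < ∏ k ∈ range ((m + 1) / 2), (1 - y ^ (2 * (k + 1))) ^ 2 := prod_pos fun k _ =>
    pow_pos (by have := pow_lt_one₀ hy0 hy1 (show 2 * (k + 1) ≠ 0 by omega); linarith) 2
  rw [prod_inv_distrib, mul_inv_le_iff₀ hpos, mul_comm (corr y m)]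
  · exact prod_even_le hy0 hy1 m

end CfsgLib.OClassNum
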