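import Cfsg.Agent.Lib.SpClassNum.Keys
import Cfsg.Agent.Lib.OClassNum.Count

/-!
The data of the classes of the orthogonal groups in even dimension, and their number.
-/

set_option autoImplicit false

namespace CfsgLib.OClassNum

open Finset CfsgLib.SpClassNum

/-- A signed Jordan type of a unipotent isometry of a symmetric form. -/
structure IsOType (μ : Multiset ℕ) (s : ℕ → Bool) : Prop where
  pos : ∀ a ∈ μ, 0 < a
  ev : ∀ j, Even j → Even (μ.count j)
  sgn : ∀ j, s j = true → Odd j ∧ j ∈ μ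

variable {F : Type*} [Field F]

/-- Admissible data. -/
structure OValid (n : ℕ) (x : ClassData F) : Prop where
  ut : IsOType x.mu x.sg
  ut' : IsOType x.mu' x.sg'
  sr : ∀ i, IsSR (x.lbl i)
  zero : x.lbl 0 = 1
  big : ∀ i, 2 * n < i → x.lbl i = 1
  weight : x.mu.sum + x.mu'.sum + ∑ i ∈ range (2 * n + 1), i * (x.lbl i).natDegree = 2 * n

/-- Some block of odd size occurs. -/
def HasOdd (x : ClassData F) : Prop :=
  (∃ j, Odd j ∧ j ∈ x.mu) ∨ ∃ j, Odd j ∧ j ∈ x.mu'

/-- Change one sign. -/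
def toggle (s : ℕ → Bool) (j : ℕ) : ℕ → Bool := Function.update s j (!s j)

theorem toggle_toggle (s : ℕ → Bool) (j : ℕ) : toggle (toggle s j) j = s := by
  simp [toggle]

open Classical in
/-- Change the sign of the smallest odd block size. -/
noncomputable def flipData (x : ClassData F) : ClassData F :=
  if h : ∃ j, Odd j ∧ j ∈ x.mu then { x with sg := toggle x.sg (Nat.find h) }
  else if h' : ∃ j, Odd j ∧ j ∈ x.mu' then { x with sg' := toggle x.sg' (Nat.find h') }
  else x

theorem flipData_flipData (x : ClassData F) : flipData (flipData x) = x := by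
  classical
  unfold flipData
  by_cases h : ∃ j, Odd j ∧ j ∈ x.mu
  · rw [dif_pos h, dif_pos h]
    simp [toggle_toggle]
  · rw [dif_neg h]
    by_cases h' : ∃ j, Odd j ∧ j ∈ x.mu'
    · rw [dif_pos h', dif_neg h, dif_pos h']
      simp [toggle_toggle]
    · rw [dif_neg h', dif_neg h, dif_neg h']

theorem IsOType.toggle {μ : Multiset ℕ} {s : ℕ → Bool} (h : IsOType μ s) {j : ℕ} (hj : Odd j ∧ j ∈ μ) :
    IsOType μ (OClassNum.toggle s j) :=
  ⟨h.pos, h.ev, fun i hi => by
    rcases eq_or_ne i j with rfl | hne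
    · exact hj
    · exact h.sgn i (by simpa [OClassNum.toggle, hne] using hi)⟩

theorem OValid.flipData {n : ℕ} {x : ClassData F} (h : OValid n x) : OValid n (flipData x) := by
  classical
  unfold OClassNum.flipData
  split_ifs with h1 h2
  · exact ⟨h.ut.toggle (Nat.find_spec h1), h.ut', h.sr, h.zero, h.big, h.weight⟩
  · exact ⟨h.ut, h.ut'.toggle (Nat.find_spec h2), h.sr, h.zero, h.big, h.weight⟩
  · exact h

theorem count_eq_zero_of_lt {μ : Multiset ℕ} {j N : ℕ} (h : μ.sum ≤ N) (hj : N < j) : μ.count j = 0 :=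
  Multiset.count_eq_zero.2 fun h' => absurd (Multiset.le_sum_of_mem h') (by omega)

theorem sum_eq_count' {μ : Multiset ℕ} {m : ℕ} (h : μ.sum ≤ 2 * (m + 1)) {s : ℕ → Bool}
    (ht : IsOType μ s) :
    μ.sum = μ.count 1 + (∑ i ∈ range m, (2 * i + 3) * μ.count (2 * i + 3)) +
      ∑ k ∈ range ((m + 1) / 2), 4 * (k + 1) * (μ.count (2 * k + 2) / 2) := by
  have hsub : μ.toFinset ⊆ range (2 * (m + 1) + 1) := fun j hj => mem_range.2 (by
    have := Multiset.le_sum_of_mem (Multiset.mem_toFinset.1 hj); omega)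
  have hlarge : ∀ k, (m + 1) / 2 ≤ k → μ.count (2 * k + 2) = 0 := fun k hk => by
    by_contra hne
    obtain ⟨c, hc⟩ := ht.ev (2 * k + 2) ⟨k + 1, by omega⟩
    have hle : Multiset.replicate (μ.count (2 * k + 2)) (2 * k + 2) ≤ μ :=
      Multiset.le_count_iff_replicate_le.1 le_rfl
    obtain ⟨u, hu⟩ := Multiset.le_iff_exists_add.1 hle
    have hs := congrArg Multiset.sum hu
    rw [Multiset.sum_add, Multiset.sum_replicate, smul_eq_mul] at hs
    have := Nat.mul_le_mul_right (2 * k + 2) (show 2 ≤ μ.count (2 * k + 2) by omega)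
    omega
  rw [Finset.sum_multiset_count_of_subset _ _ hsub, sum_range_parity, smul_zero, zero_add,
    sum_add_distrib]
  congr 1
  · rw [sum_range_succ', add_comm]
    simp only [smul_eq_mul, show ∀ i, 2 * (i + 1) + 1 = 2 * i + 3 from fun i => by omega, Nat.mul_zero,
      zero_add, mul_one]
    congr 1
    exact sum_congr rfl fun i _ => mul_comm _ _
  · rw [← sum_subset (range_subset_range.2 (show (m + 1) / 2 ≤ m + 1 by omega)) fun k _ hk => by
      rw [hlarge k (by have := mem_range.not.1 hk; omega), zero_smul]]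
    refine sum_congr rfl fun k _ => ?_
    obtain ⟨c, hc⟩ := ht.ev (2 * k + 2) ⟨k + 1, by omega⟩
    rw [smul_eq_mul, hc, show (c + c) / 2 = c by omega]
    ring

theorem OValid.natDegree_eq {n : ℕ} {x : ClassData F} (h : OValid n x) (i : ℕ) :
    (x.lbl i).natDegree = 2 * ((x.lbl i).natDegree / 2) := by
  obtain ⟨c, hc⟩ := (h.sr i).even
  omega

theorem OValid.lbl_eq_one {n : ℕ} {x : ClassData F} (h : OValid n x) {i : ℕ} (hi : n < i) :
    x.lbl i = 1 := by
  by_cases hb : 2 * n < i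
  · exact h.big i hb
  refine (h.sr i).monic.natDegree_eq_zero.1 ?_
  have h1 : i * (x.lbl i).natDegree ≤ 2 * n := le_trans (single_le_sum (s := range (2 * n + 1))
    (f := fun i => i * (x.lbl i).natDegree) (fun _ _ => Nat.zero_le _) (mem_range.2 (by omega)))
    (by have := h.weight; omega)
  rw [h.natDegree_eq i] at h1 ⊢
  by_contra hne
  have : i * 2 ≤ i * (2 * ((x.lbl i).natDegree / 2)) := Nat.mul_le_mul_left i (by omega)
  omega

/-- The total of the first index. -/
noncomputable def tot1 (x : ClassData F) : ℕ :=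
  x.mu.count 1 + x.mu'.count 1 + 2 * ((x.lbl 1).natDegree / 2)

theorem OValid.weight_eq {m : ℕ} {x : ClassData F} (h : OValid (m + 1) x) :
    tot1 x + (∑ i ∈ range m, ((2 * i + 3) * x.mu.count (2 * i + 3) +
        (2 * i + 3) * x.mu'.count (2 * i + 3) + 2 * (i + 2) * ((x.lbl (i + 2)).natDegree / 2))) +
      ∑ k ∈ range ((m + 1) / 2), (4 * (k + 1) * (x.mu.count (2 * k + 2) / 2) +
        4 * (k + 1) * (x.mu'.count (2 * k + 2) / 2)) = 2 * (m + 1) := by
  have hw := h.weight
  rw [sum_eq_count' (m := m) (by omega) h.ut, sum_eq_count' (m := m) (by omega) h.ut'] at hw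
  rw [show ∑ i ∈ range (2 * (m + 1) + 1), i * (x.lbl i).natDegree =
      ∑ i ∈ range (m + 2), i * (x.lbl i).natDegree from
    (sum_subset (range_subset_range.2 (show m + 2 ≤ 2 * (m + 1) + 1 by omega)) fun i _ hi => by
      rw [h.lbl_eq_one (show m + 1 < i by have := mem_range.not.1 hi; omega)]; simp).symm,
    sum_range_succ', sum_range_succ'] at hw
  rw [sum_congr rfl fun i (_ : i ∈ range m) =>
    show (i + 1 + 1) * (x.lbl (i + 1 + 1)).natDegree = 2 * (i + 2) * ((x.lbl (i + 2)).natDegree / 2) by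
      conv_lhs => rw [h.natDegree_eq (i + 1 + 1)]
      ring_nf] at hw
  rw [show (0 + 1) * (x.lbl (0 + 1)).natDegree = 2 * ((x.lbl 1).natDegree / 2) by
    conv_lhs => rw [h.natDegree_eq (0 + 1)]
    simp] at hw
  simp only [tot1, sum_add_distrib] at hw ⊢
  omega

/-- The index of a sign. -/
def code1 (s : Bool) : ℕ := if s then 1 else 0

theorem code1_lt {e : ℕ} {s : Bool} (hs : s = true → 0 < e) : code1 s < sc e := by
  cases s
  · simp [code1, sc]; split_ifs <;> omega
  · have := hs rfl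
    simp [code1, sc]; split_ifs <;> omega

theorem code1_inj {s t : Bool} (h : code1 s = code1 t) : s = t := by
  cases s <;> cases t <;> simp_all [code1]

variable [Fintype F]

open Classical in
/-- The number of classes described by the data is bounded. -/
theorem card_data_le (h2 : (2 : F) ≠ 0) (hq : 3 ≤ Fintype.card F) (m : ℕ) {C : Type*} [Fintype C]
    (D : C → ClassData F) (hD : ∀ c, OValid (m + 1) (D c)) (hinj : Function.Injective D)
    (hflip : ∀ c c', HasOdd (D c) → D c' ≠ flipData (D c)) :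
    2 * Nat.card C ≤ 19 * Fintype.card F ^ (m + 1) := by
  set q := Fintype.card F with hqdef
  choose S hS hmem using exists_srSet (F := F) h2
  let slot : ℕ → Finset (ℕ × Polynomial F × ℕ) := fun t =>
    (range (t / 2 + 1)).biUnion fun d => {d} ×ˢ S d ×ˢ range (e2 (t - 2 * d))
  let slot0 : ℕ → Finset (ℕ × Polynomial F × ℕ) := fun t =>
    if Even t then {t / 2} ×ˢ S (t / 2) ×ˢ {0} else ∅
  let keys : Finset (Fin (m + 2)) → (ℕ → Finset (ℕ × Polynomial F × ℕ)) →
      Finset (Box m × (ℕ × Polynomial F × ℕ) × (Fin m → Polynomial F × ℕ × ℕ)) := fun E sl =>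
    ((boxes m E).filter fun r => bw r ≤ 2 * (m + 1)).biUnion fun r =>
      {r} ×ˢ sl (2 * (m + 1) - bw r) ×ˢ Fintype.piFinset fun i : Fin m =>
        S (r.1 i).2.2 ×ˢ range (sc (r.1 i).1) ×ˢ range (sc (r.1 i).2.1)
  have hkeys : ∀ E sl (f : ℕ → ℕ), (∀ t, (sl t).card ≤ f t) → (keys E sl).card ≤
      ∑ r ∈ (boxes m E).filter (fun r => bw r ≤ 2 * (m + 1)), f (2 * (m + 1) - bw r) *
        ∏ i, (sc (r.1 i).1 * sc (r.1 i).2.1 * cnt q (r.1 i).2.2) := by
    intro E sl f hf
    refine card_biUnion_le.trans (sum_le_sum fun r _ => ?_)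
    rw [card_product, card_product, card_singleton, one_mul, Fintype.card_piFinset]
    refine Nat.mul_le_mul (hf _) (prod_le_prod (fun i _ => Nat.zero_le _) fun i _ => ?_)
    rw [card_product, card_product, card_range, card_range, mul_comm]
    exact Nat.mul_le_mul_left _ (hS _)
  have hq0 : (0 : ℝ) < q := by exact_mod_cast (show 0 < q by omega)
  set x : ℝ := Real.sqrt ((q : ℝ)⁻¹)
  have hx : 0 ≤ x := Real.sqrt_nonneg _
  have hx2 : x ^ 2 = (q : ℝ)⁻¹ := Real.sq_sqrt (inv_nonneg.2 hq0.le)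
  have hxq : (q : ℝ) * x ^ 2 = 1 := by rw [hx2, mul_inv_cancel₀ hq0.ne']
  have hy3 : x ^ 2 ≤ 1 / 3 := by
    rw [hx2, one_div]; exact inv_anti₀ (by norm_num) (by exact_mod_cast hq)
  have hx1 : x < 1 := by
    by_contra h
    push Not at h
    have : (1 : ℝ) ≤ x ^ 2 := one_le_pow₀ h
    linarith
  have hslot : ∀ t, (slot t).card ≤ wT q t := fun t => by
    refine card_biUnion_le.trans (sum_le_sum fun d _ => ?_)
    rw [card_product, card_product, card_singleton, one_mul, card_range]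
    exact Nat.mul_le_mul_right _ (hS d)
  have hslot0 : ∀ t, (slot0 t).card ≤ if Even t then cnt q (t / 2) else 0 := fun t => by
    simp only [slot0]
    split_ifs
    · simpa using hS (t / 2)
    · simp
  have hA0 : ∀ T, ((if Even T then cnt q (T / 2) else 0 : ℕ) : ℝ) * x ^ T ≤ 1 := fun T => by
    split_ifs with hT
    · obtain ⟨c, rfl⟩ := hT
      rw [show (c + c) / 2 = c by omega, ← two_mul, pow_mul]
      refine le_trans (mul_le_mul_of_nonneg_right (Nat.cast_le.2 (cnt_le (by omega) c)) (by positivity)) ?_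
      rw [Nat.cast_pow, ← mul_pow, hxq, one_pow]
    · simp
  have hK := sum_boxes_le (q := q) (by omega) hx hxq m univ (wT q) (wT_le (by omega) hx hxq)
    (fun i => (1 + x ^ (2 * i + 3)) / (1 - x ^ (2 * i + 3))) fun i _ =>
      le_of_eq_of_le (Fin.sum_univ_eq_sum_range (fun e => (sc e : ℝ) * (x ^ (2 * i + 3)) ^ e) (m + 2))
        (sum_sc_le (pow_nonneg hx _) (pow_lt_one₀ hx hx1 (by omega)) _)
  have hK0 := sum_boxes_le (q := q) (by omega) hx hxq m {0} (fun T => if Even T then cnt q (T / 2) else 0)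
    hA0 (fun _ => 1) fun i _ => by simp [sc]
  suffices h : 2 * Nat.card C ≤ (keys univ slot).card + (keys {0} slot0).card by
    have h1 := hkeys univ slot _ hslot
    have h0 := hkeys {0} slot0 _ hslot0
    have hb := bound hx rfl hy3 m
    have hcast : ((2 * Nat.card C : ℕ) : ℝ) ≤ ((19 * q ^ (m + 1) : ℕ) : ℝ) := by
      refine le_trans (Nat.cast_le.2 (h.trans (add_le_add h1 h0))) ?_
      rw [Nat.cast_add]
      refine (add_le_add hK hK0).trans ?_
      simp only [one_pow, one_mul]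
      push_cast
      rw [← mul_add, mul_comm (19 : ℝ)]
      refine mul_le_mul_of_nonneg_left (le_of_eq_of_le ?_ hb) (by positivity)
      simp only [fac, fac']
      ring
    exact_mod_cast hcast
  have hb : ∀ (x : ClassData F), OValid (m + 1) x →
      (∀ i < m, x.mu.count (2 * i + 3) < m + 2 ∧ x.mu'.count (2 * i + 3) < m + 2 ∧
        (x.lbl (i + 2)).natDegree / 2 < m + 2) ∧
      ∀ k < (m + 1) / 2, x.mu.count (2 * k + 2) / 2 < m + 2 ∧ x.mu'.count (2 * k + 2) / 2 < m + 2 := by
    intro x hx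
    have h := hx.weight_eq
    refine ⟨fun i hi => ?_, fun k hk => ?_⟩
    · have h' := single_le_sum (f := fun i => (2 * i + 3) * x.mu.count (2 * i + 3) +
        (2 * i + 3) * x.mu'.count (2 * i + 3) + 2 * (i + 2) * ((x.lbl (i + 2)).natDegree / 2))
        (fun _ _ => Nat.zero_le _) (mem_range.2 hi)
      have a1 := Nat.mul_le_mul_right (x.mu.count (2 * i + 3)) (show 3 ≤ 2 * i + 3 by omega)
      have a2 := Nat.mul_le_mul_right (x.mu'.count (2 * i + 3)) (show 3 ≤ 2 * i + 3 by omega)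
      have a3 := Nat.mul_le_mul_right ((x.lbl (i + 2)).natDegree / 2) (show 3 ≤ 2 * (i + 2) by omega)
      omega
    · have h' := single_le_sum (f := fun k => 4 * (k + 1) * (x.mu.count (2 * k + 2) / 2) +
        4 * (k + 1) * (x.mu'.count (2 * k + 2) / 2)) (fun _ _ => Nat.zero_le _) (mem_range.2 hk)
      have a1 := Nat.mul_le_mul_right (x.mu.count (2 * k + 2) / 2) (show 3 ≤ 4 * (k + 1) by omega)
      have a2 := Nat.mul_le_mul_right (x.mu'.count (2 * k + 2) / 2) (show 3 ≤ 4 * (k + 1) by omega)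
      omega
  let V := {x : ClassData F // OValid (m + 1) x}
  let rest : V → Box m := fun x =>
    (fun i => (⟨x.1.mu.count (2 * (i : ℕ) + 3), ((hb x.1 x.2).1 i i.2).1⟩,
        ⟨x.1.mu'.count (2 * (i : ℕ) + 3), ((hb x.1 x.2).1 i i.2).2.1⟩,
        ⟨(x.1.lbl ((i : ℕ) + 2)).natDegree / 2, ((hb x.1 x.2).1 i i.2).2.2⟩),
      fun k => (⟨x.1.mu.count (2 * (k : ℕ) + 2) / 2, ((hb x.1 x.2).2 k k.2).1⟩,
        ⟨x.1.mu'.count (2 * (k : ℕ) + 2) / 2, ((hb x.1 x.2).2 k k.2).2⟩))
  have hsum : ∀ x : V, tot1 x.1 + bw (rest x) = 2 * (m + 1) := fun x => by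
    conv_rhs => rw [← x.2.weight_eq]
    rw [← Fin.sum_univ_eq_sum_range, ← Fin.sum_univ_eq_sum_range, add_assoc]
    rfl
  let key : V → Box m × (ℕ × Polynomial F × ℕ) × (Fin m → Polynomial F × ℕ × ℕ) := fun x =>
    (rest x, ((x.1.lbl 1).natDegree / 2, x.1.lbl 1,
        code (x.1.mu.count 1) (x.1.mu'.count 1) (x.1.sg 1) (x.1.sg' 1)),
      fun i => (x.1.lbl ((i : ℕ) + 2), code1 (x.1.sg (2 * (i : ℕ) + 3)), code1 (x.1.sg' (2 * (i : ℕ) + 3))))
  have sgpos : ∀ {μ : Multiset ℕ} {s : ℕ → Bool}, IsOType μ s → ∀ j, s j = true → 0 < μ.count j :=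
    fun h j hj => Multiset.count_pos.2 (h.sgn j hj).2
  have key_mem : ∀ x : V, key x ∈ keys univ slot := fun x => by
    have hs := hsum x
    refine mem_biUnion.2 ⟨rest x, mem_filter.2 ⟨?_, by omega⟩, mem_product.2 ⟨mem_singleton_self _,
      mem_product.2 ⟨mem_biUnion.2 ⟨(x.1.lbl 1).natDegree / 2, mem_range.2 ?_, mem_product.2
        ⟨mem_singleton_self _, mem_product.2 ⟨hmem _ _ (x.2.sr _) (x.2.natDegree_eq _), mem_range.2 ?_⟩⟩⟩,
        Fintype.mem_piFinset.2 fun i => mem_product.2 ⟨hmem _ _ (x.2.sr _) (x.2.natDegree_eq _),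
          mem_product.2 ⟨mem_range.2 (code1_lt (sgpos x.2.ut _)),
            mem_range.2 (code1_lt (sgpos x.2.ut' _))⟩⟩⟩⟩⟩
    · exact mem_product.2 ⟨Fintype.mem_piFinset.2 fun i => by simp, mem_univ _⟩
    · simp only [tot1] at hs; omega
    · simp only [tot1] at hs
      rw [show 2 * (m + 1) - bw (rest x) - 2 * ((x.1.lbl 1).natDegree / 2) =
        x.1.mu.count 1 + x.1.mu'.count 1 by omega]
      exact code_lt (sgpos x.2.ut _) (sgpos x.2.ut' _)
  have key_mem0 : ∀ x : V, ¬ HasOdd x.1 → key x ∈ keys {0} slot0 := fun x hx => by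
    have hs := hsum x
    have hz : ∀ j, Odd j → x.1.mu.count j = 0 ∧ x.1.mu'.count j = 0 := fun j hj =>
      ⟨Multiset.count_eq_zero.2 fun h => hx (Or.inl ⟨j, hj, h⟩),
        Multiset.count_eq_zero.2 fun h => hx (Or.inr ⟨j, hj, h⟩)⟩
    have hs1 : ∀ j, x.1.sg j = true → False := fun j hj => by
      have := sgpos x.2.ut j hj
      have := (hz j (x.2.ut.sgn j hj).1).1
      omega
    have hs2 : ∀ j, x.1.sg' j = true → False := fun j hj => by
      have := sgpos x.2.ut' j hj
      have := (hz j (x.2.ut'.sgn j hj).1).2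
      omega
    have hh := hz 1 odd_one
    simp only [tot1] at hs
    refine mem_biUnion.2 ⟨rest x, mem_filter.2 ⟨?_, by omega⟩, mem_product.2 ⟨mem_singleton_self _,
      mem_product.2 ⟨?_,
        Fintype.mem_piFinset.2 fun i => mem_product.2 ⟨hmem _ _ (x.2.sr _) (x.2.natDegree_eq _),
          mem_product.2 ⟨mem_range.2 (code1_lt (sgpos x.2.ut _)),
            mem_range.2 (code1_lt (sgpos x.2.ut' _))⟩⟩⟩⟩⟩
    · refine mem_product.2 ⟨Fintype.mem_piFinset.2 fun i => ?_, mem_univ _⟩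
      have := hz (2 * (i : ℕ) + 3) ⟨(i : ℕ) + 1, by omega⟩
      simp only [rest, mem_product, mem_singleton, mem_univ, and_true, Fin.ext_iff, Fin.val_zero]
      exact this
    · have e : 2 * (m + 1) - bw (rest x) = 2 * ((x.1.lbl 1).natDegree / 2) := by omega
      simp only [slot0]
      rw [e, if_pos (even_two_mul _), Nat.mul_div_cancel_left _ (by norm_num)]
      refine mem_product.2 ⟨mem_singleton_self _, mem_product.2 ⟨hmem _ _ (x.2.sr _) (x.2.natDegree_eq _),
        mem_singleton.2 ?_⟩⟩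
      show code _ _ _ _ = 0
      rw [hh.1, hh.2]
      have : x.1.sg' 1 = false := Bool.eq_false_iff.2 (hs2 1)
      simp [code, this]
  have key_inj : Function.Injective key := fun x x' hcc => by
    obtain ⟨⟨μ, s, μ', s', v⟩, hv⟩ := x
    obtain ⟨⟨ν, t, ν', t', w⟩, hw⟩ := x'
    simp only [key, Prod.mk.injEq] at hcc
    obtain ⟨hr, ⟨hd, hv1, hc⟩, hk⟩ := hcc
    have hs : μ.count 1 + μ'.count 1 = ν.count 1 + ν'.count 1 := by
      have a := hsum ⟨⟨μ, s, μ', s', v⟩, hv⟩
      have b := hsum ⟨⟨ν, t, ν', t', w⟩, hw⟩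
      rw [hr] at a
      simp only [tot1] at a b
      omega
    obtain ⟨c1, c1', f1, f1'⟩ := code_inj (sgpos hv.ut _) (sgpos hv.ut' _) (sgpos hw.ut _)
      (sgpos hw.ut' _) hs hc
    have hodd : ∀ i, μ.count (2 * i + 3) = ν.count (2 * i + 3) ∧ μ'.count (2 * i + 3) = ν'.count (2 * i + 3) ∧
        s (2 * i + 3) = t (2 * i + 3) ∧ s' (2 * i + 3) = t' (2 * i + 3) ∧ v (i + 2) = w (i + 2) := fun i => by
      by_cases hi : i < m
      · have a1 := congrArg (fun r : Box m => (((r.1 ⟨i, hi⟩).1 : ℕ), ((r.1 ⟨i, hi⟩).2.1 : ℕ))) hr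
        have a2 := congrFun hk ⟨i, hi⟩
        simp only [rest, Prod.mk.injEq] at a1 a2
        exact ⟨a1.1, a1.2, code1_inj a2.2.1, code1_inj a2.2.2, a2.1⟩
      · have z : ∀ {μ : Multiset ℕ} {s : ℕ → Bool}, IsOType μ s → μ.sum ≤ 2 * (m + 1) →
            μ.count (2 * i + 3) = 0 ∧ s (2 * i + 3) = false := fun h hle => by
          have h0 := count_eq_zero_of_lt hle (show 2 * (m + 1) < 2 * i + 3 by omega)
          exact ⟨h0, Bool.eq_false_iff.2 fun h' => by have := sgpos h _ h'; omega⟩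
        have wv := hv.weight
        have ww := hw.weight
        simp only at wv ww
        obtain ⟨p1, q1⟩ := z hv.ut (by simp only; omega)
        obtain ⟨p2, q2⟩ := z hv.ut' (by simp only; omega)
        obtain ⟨p3, q3⟩ := z hw.ut (by simp only; omega)
        obtain ⟨p4, q4⟩ := z hw.ut' (by simp only; omega)
        exact ⟨p1.trans p3.symm, p2.trans p4.symm, q1.trans q3.symm, q2.trans q4.symm,
          (hv.lbl_eq_one (by omega)).trans (hw.lbl_eq_one (by omega)).symm⟩
    have heven : ∀ k, μ.count (2 * k + 2) = ν.count (2 * k + 2) ∧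
        μ'.count (2 * k + 2) = ν'.count (2 * k + 2) := fun k => by
      obtain ⟨a, ha⟩ := hv.ut.ev (2 * k + 2) ⟨k + 1, by omega⟩
      obtain ⟨a', ha'⟩ := hv.ut'.ev (2 * k + 2) ⟨k + 1, by omega⟩
      obtain ⟨b, hb⟩ := hw.ut.ev (2 * k + 2) ⟨k + 1, by omega⟩
      obtain ⟨b', hb'⟩ := hw.ut'.ev (2 * k + 2) ⟨k + 1, by omega⟩
      by_cases hk' : k < (m + 1) / 2
      · have a1 := congrArg (fun r : Box m => (((r.2 ⟨k, hk'⟩).1 : ℕ), ((r.2 ⟨k, hk'⟩).2 : ℕ))) hr
        simp only [rest, Prod.mk.injEq] at a1 ha ha' hb hb'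
        omega
      · have z : ∀ {μ : Multiset ℕ}, μ.sum ≤ 2 * (m + 1) → Even (μ.count (2 * k + 2)) →
            μ.count (2 * k + 2) = 0 := fun {μ} hle ⟨c, hc⟩ => by
          by_contra hne
          obtain ⟨u, hu⟩ := Multiset.le_iff_exists_add.1
            ((Multiset.le_count_iff_replicate_le (a := 2 * k + 2) (s := μ)).1 le_rfl)
          have hs := congrArg Multiset.sum hu
          rw [Multiset.sum_add, Multiset.sum_replicate, smul_eq_mul] at hs
          have := Nat.mul_le_mul_right (2 * k + 2) (show 2 ≤ μ.count (2 * k + 2) by omega)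
          omega
        have wv := hv.weight
        have ww := hw.weight
        simp only at wv ww ha ha' hb hb'
        rw [z (by omega) ⟨a, ha⟩, z (by omega) ⟨a', ha'⟩, z (by omega) ⟨b, hb⟩, z (by omega) ⟨b', hb'⟩]
        exact ⟨rfl, rfl⟩
    have hcase : ∀ j : ℕ, j = 0 ∨ j = 1 ∨ (∃ i, j = 2 * i + 3) ∨ ∃ i, j = 2 * i + 2 := fun j => by
      rcases Nat.even_or_odd j with ⟨k, hk⟩ | ⟨k, hk⟩
      · by_cases h : j = 0
        · exact Or.inl h
        · exact Or.inr (Or.inr (Or.inr ⟨k - 1, by omega⟩))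
      · by_cases h : j = 1
        · exact Or.inr (Or.inl h)
        · exact Or.inr (Or.inr (Or.inl ⟨k - 1, by omega⟩))
    have z0 : ∀ {μ : Multiset ℕ} {s : ℕ → Bool}, IsOType μ s → μ.count 0 = 0 ∧ s 0 = false := fun h =>
      ⟨Multiset.count_eq_zero.2 fun h0 => Nat.lt_irrefl 0 (h.pos 0 h0),
        Bool.eq_false_iff.2 fun h' => Nat.lt_irrefl 0 (h.pos 0 (h.sgn 0 h').2)⟩
    have ze : ∀ {μ : Multiset ℕ} {s : ℕ → Bool}, IsOType μ s → ∀ i, s (2 * i + 2) = false := fun h i =>
      Bool.eq_false_iff.2 fun h' => Nat.not_even_iff_odd.2 (h.sgn _ h').1 ⟨i + 1, by omega⟩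
    have e1 : μ = ν := Multiset.ext.2 fun j => by
      rcases hcase j with rfl | rfl | ⟨i, rfl⟩ | ⟨i, rfl⟩
      exacts [(z0 hv.ut).1.trans (z0 hw.ut).1.symm, c1, (hodd i).1, (heven i).1]
    have e1' : μ' = ν' := Multiset.ext.2 fun j => by
      rcases hcase j with rfl | rfl | ⟨i, rfl⟩ | ⟨i, rfl⟩
      exacts [(z0 hv.ut').1.trans (z0 hw.ut').1.symm, c1', (hodd i).2.1, (heven i).2]
    have e2 : s = t := funext fun j => by
      rcases hcase j with rfl | rfl | ⟨i, rfl⟩ | ⟨i, rfl⟩
      exacts [(z0 hv.ut).2.trans (z0 hw.ut).2.symm, f1, (hodd i).2.2.1, (ze hv.ut i).trans (ze hw.ut i).symm]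
    have e2' : s' = t' := funext fun j => by
      rcases hcase j with rfl | rfl | ⟨i, rfl⟩ | ⟨i, rfl⟩
      exacts [(z0 hv.ut').2.trans (z0 hw.ut').2.symm, f1', (hodd i).2.2.2.1,
        (ze hv.ut' i).trans (ze hw.ut' i).symm]
    have e3 : v = w := funext fun j => by
      rcases j with _ | _ | i
      exacts [hv.zero.trans hw.zero.symm, hv1, (hodd i).2.2.2.2]
    subst e1 e1' e2 e2' e3
    rfl
  let φ : C → V := fun c => ⟨D c, hD c⟩
  let φ' : C → V := fun c => ⟨flipData (D c), (hD c).flipData⟩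
  let OddC : Finset C := univ.filter fun c => HasOdd (D c)
  have h1 : Nat.card C + OddC.card ≤ (keys univ slot).card := by
    rw [Nat.card_eq_fintype_card, ← card_univ, ← card_disjSum]
    refine card_le_card_of_injOn (Sum.elim (fun c => key (φ c)) fun c => key (φ' c))
      (fun c _ => ?_) fun a ha b hb h => ?_
    · rcases c with c | c <;> exact key_mem _
    · rcases a with a | a <;> rcases b with b | b <;>
        replace h := congrArg Subtype.val (key_inj h) <;> simp only [φ, φ'] at h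
      · rw [hinj h]
      · exact absurd h (hflip b a (mem_filter.1 (inr_mem_disjSum.1 hb)).2)
      · exact absurd h.symm (hflip a b (mem_filter.1 (inr_mem_disjSum.1 ha)).2)
      · rw [hinj (by rw [← flipData_flipData (D a), h, flipData_flipData] : D a = D b)]
  have h0 : (univ.filter fun c => ¬ HasOdd (D c)).card ≤ (keys {0} slot0).card :=
    card_le_card_of_injOn (fun c => key (φ c)) (fun c hc => key_mem0 _ (mem_filter.1 hc).2)
      fun a _ b _ h => hinj (congrArg Subtype.val (key_inj h))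
  have hsplit := card_filter_add_card_filter_not (s := (univ : Finset C)) fun c => HasOdd (D c)
  rw [card_univ, ← Nat.card_eq_fintype_card] at hsplit
  simp only [OddC] at h1
  omega

end CfsgLib.OClassNum
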