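import Cfsg.Agent.Lib.SpUnipClass.Congr

/-!
At least `q^n / 2` classes in an orthogonal group of dimension `2n`: at least half of the monic
polynomials `h` of degree `n` occur as square roots of the characteristic polynomial of `g + g⁻¹`.
-/

set_option autoImplicit false

namespace CfsgLib.OClassNum

open Polynomial Matrix

variable {F : Type*} [Field F]

/-- A matrix with given characteristic polynomial which is symmetric for a non-degenerate symmetric form. -/
theorem exists_symmetrizer {h : F[X]} (hm : h.Monic) :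
    ∃ J S : Matrix (Fin h.natDegree) (Fin h.natDegree) F,
      Jᵀ = J ∧ J.det ≠ 0 ∧ (J * S)ᵀ = J * S ∧ S.charpoly = h := by
  let pb := AdjoinRoot.powerBasis' hm
  haveI : FiniteDimensional F (AdjoinRoot h) := pb.finite
  let L : (AdjoinRoot h) →ₗ[F] F :=
    (Polynomial.lcoeff F (h.natDegree - 1)).comp (AdjoinRoot.modByMonicHom hm)
  let β : (AdjoinRoot h) →ₗ[F] (AdjoinRoot h) →ₗ[F] F := (LinearMap.mul F (AdjoinRoot h)).compr₂ L
  have hβ : ∀ u w, β u w = L (u * w) := fun u w => rfl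
  have hβnd : β.SeparatingLeft := by
    intro u hu
    by_contra hu0
    obtain ⟨r, rfl⟩ := AdjoinRoot.mk_surjective u
    rw [← AdjoinRoot.mk_leftInverse hm (AdjoinRoot.mk h r), AdjoinRoot.modByMonicHom_mk] at hu hu0
    set s := r %ₘ h with hs
    have hs0 : s ≠ 0 := fun e => hu0 (by rw [e, map_zero])
    have hh1 : h ≠ 1 := fun e => hs0 (by rw [hs, e, modByMonic_one])
    have hsd : s.natDegree < h.natDegree := natDegree_modByMonic_lt r hm hh1
    have h1 := hu (AdjoinRoot.mk h (X ^ (h.natDegree - 1 - s.natDegree)))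
    rw [hβ, ← map_mul] at h1
    replace h1 : ((s * X ^ (h.natDegree - 1 - s.natDegree)) %ₘ h).coeff (h.natDegree - 1) = 0 := by
      rw [← AdjoinRoot.modByMonicHom_mk hm]; exact h1
    rw [(modByMonic_eq_self_iff hm).2 (by
      rw [degree_eq_natDegree hm.ne_zero, degree_eq_natDegree (mul_ne_zero hs0 (pow_ne_zero _ X_ne_zero)),
        Nat.cast_lt, natDegree_mul_X_pow _ hs0]
      omega)] at h1
    have h2 := coeff_mul_X_pow s (h.natDegree - 1 - s.natDegree) s.natDegree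
    rw [show s.natDegree + (h.natDegree - 1 - s.natDegree) = h.natDegree - 1 by omega] at h2
    rw [h2] at h1
    exact hs0 (leadingCoeff_eq_zero.1 h1)
  let b : Module.Basis (Fin h.natDegree) F (AdjoinRoot h) := pb.basis
  let M := LinearMap.toMatrix₂ b b β
  let S := Algebra.leftMulMatrix b (AdjoinRoot.root h)
  have hJS : M * S = LinearMap.toMatrix₂ b b (β.compl₂ (LinearMap.mulLeft F (AdjoinRoot.root h))) :=
    (LinearMap.toMatrix₂_compl₂ b b b β _).symm
  refine ⟨M, S, ?_, (LinearMap.separatingLeft_iff_det_ne_zero b).1 hβnd, ?_, ?_⟩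
  · ext i j
    simp only [M, Matrix.transpose_apply, LinearMap.toMatrix₂_apply, hβ, mul_comm]
  · ext i j
    rw [hJS, Matrix.transpose_apply, LinearMap.toMatrix₂_apply, LinearMap.toMatrix₂_apply]
    simp only [LinearMap.compl₂_apply, LinearMap.mulLeft_apply, hβ]
    congr 1
    ring
  · have hmin := charpoly_leftMulMatrix pb
    rw [show pb.gen = AdjoinRoot.root h from rfl, AdjoinRoot.minpoly_root hm.ne_zero, hm.leadingCoeff,
      inv_one, C_1, mul_one] at hmin
    exact hmin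

theorem det_two_sub_sq {m : Type*} [Fintype m] [DecidableEq m] (S : Matrix m m F) :
    (fromBlocks ((2 : F) • (1 : Matrix m m F)) S S ((2 : F) • (1 : Matrix m m F))).det =
      ((2 : F) • 1 + S).det * ((2 : F) • (1 : Matrix m m F) - S).det := by
  have key : fromBlocks 1 1 0 1 * fromBlocks ((2 : F) • (1 : Matrix m m F)) S S ((2 : F) • 1) *
      fromBlocks 1 (-1) 0 1 = fromBlocks ((2 : F) • 1 + S) 0 S ((2 : F) • 1 - S) := by
    rw [fromBlocks_multiply, fromBlocks_multiply]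
    simp only [Matrix.one_mul, Matrix.zero_mul, Matrix.mul_one, Matrix.mul_zero, mul_neg, zero_add,
      add_zero]
    congr 1 <;> abel
  have hd := congrArg Matrix.det key
  rw [det_mul, det_mul, det_fromBlocks_zero₂₁, det_fromBlocks_zero₂₁, det_fromBlocks_zero₁₂] at hd
  simpa using hd

/-- The core block: `x + x⁻¹` is `S ⊕ S`. -/
theorem core_block {m : Type*} [Fintype m] [DecidableEq m] {J S : Matrix m m F} (hJ : Jᵀ = J)
    (hJS : (J * S)ᵀ = J * S) :
    ∃ (A A' Q : Matrix (m ⊕ m) (m ⊕ m) F), A * A' = 1 ∧ Qᵀ = Q ∧ Aᵀ * Q * A = Q ∧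
      (A + A').charpoly = S.charpoly ^ 2 ∧
      Q.det = J.det ^ 2 * ((-1) ^ Fintype.card m * S.charpoly.eval 2 * S.charpoly.eval (-2)) := by
  have hSJ : Sᵀ * J = J * S := by rwa [transpose_mul, hJ] at hJS
  refine ⟨fromBlocks 0 (-1) 1 S, fromBlocks S 1 (-1) 0,
    fromBlocks ((2 : F) • J) (J * S) (J * S) ((2 : F) • J), ?_, ?_, ?_, ?_, ?_⟩
  · rw [fromBlocks_multiply, ← fromBlocks_one]
    congr 1 <;> simp
  · rw [fromBlocks_transpose, transpose_smul, hJ, hJS]
  · rw [fromBlocks_transpose, fromBlocks_multiply, fromBlocks_multiply]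
    congr 1
    · simp
    · simp [Matrix.mul_add, Matrix.add_mul, two_smul]
    · simp [Matrix.mul_smul, Matrix.mul_add, hSJ, two_smul]
    · simp only [transpose_zero, transpose_one, transpose_neg, Matrix.zero_mul, Matrix.mul_zero,
        Matrix.neg_mul, Matrix.one_mul, Matrix.mul_neg, Matrix.mul_one, zero_add, Matrix.mul_smul,
        Matrix.smul_mul, Matrix.add_mul, Matrix.mul_add, smul_neg, neg_neg, ← Matrix.mul_assoc, hSJ]
      module
  · rw [fromBlocks_add]
    simp only [zero_add, add_neg_cancel, neg_add_cancel, add_zero, charpoly_fromBlocks_zero₁₂, sq]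
  · have hf : fromBlocks ((2 : F) • J) (J * S) (J * S) ((2 : F) • J) =
        fromBlocks J 0 0 J * fromBlocks ((2 : F) • 1) S S ((2 : F) • 1) := by
      rw [fromBlocks_multiply]
      congr 1 <;> simp
    rw [hf, det_mul, det_fromBlocks_zero₁₂, det_two_sub_sq, Matrix.eval_charpoly, Matrix.eval_charpoly]
    have e1 : Matrix.scalar m (2 : F) = (2 : F) • (1 : Matrix m m F) := by
      rw [Matrix.scalar_apply, Matrix.smul_one_eq_diagonal]
    have e2 : Matrix.scalar m (-2 : F) - S = -((2 : F) • (1 : Matrix m m F) + S) := by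
      rw [map_neg, e1]; abel
    rw [e2, e1, det_neg]
    have hs : ((-1 : F) ^ Fintype.card m) * (-1) ^ Fintype.card m = 1 := by
      rw [← mul_pow, neg_mul_neg, one_mul, one_pow]
    linear_combination (-(J.det ^ 2 * ((2 : F) • (1 : Matrix m m F) + S).det *
      ((2 : F) • (1 : Matrix m m F) - S).det)) * hs

variable [Fintype F]

/-- Polynomials which occur in the orthogonal group of `D`. -/
theorem exists_elem (h2 : (2 : F) ≠ 0) {ι : Type*} [Fintype ι] [DecidableEq ι] {n : ℕ}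
    (hι : Fintype.card ι = 2 * n) {D : Matrix ι ι F} (hD : Dᵀ = D) (hDu : D.det ≠ 0) {h : F[X]}
    (hm : h.Monic) (hd : h.natDegree = n)
    (hr : h.eval 2 * h.eval (-2) = 0 ∨ IsSquare ((-1) ^ n * D.det * h.eval 2 * h.eval (-2))) :
    ∃ A A' : Matrix ι ι F, A * A' = 1 ∧ Aᵀ * D * A = D ∧ (A + A').charpoly = h ^ 2 := by
  classical
  obtain ⟨q₁, hq₁, hq₁2⟩ := exists_eq_pow_rootMultiplicity_mul_and_not_dvd h hm.ne_zero (2 : F)
  set a := rootMultiplicity (2 : F) h
  have hq₁m : q₁.Monic := ((monic_X_sub_C (2 : F)).pow a).of_mul_monic_left (hq₁ ▸ hm)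
  obtain ⟨h₀, hq₀, hq₀2⟩ := exists_eq_pow_rootMultiplicity_mul_and_not_dvd q₁ hq₁m.ne_zero (-2 : F)
  set b := rootMultiplicity (-2 : F) q₁
  have hm₀ : h₀.Monic := ((monic_X_sub_C (-2 : F)).pow b).of_mul_monic_left (hq₀ ▸ hq₁m)
  have e2 : h₀.eval 2 ≠ 0 := fun e => hq₁2 (by
    rw [hq₀]; exact dvd_mul_of_dvd_right (dvd_iff_isRoot.2 e) _)
  have em2 : h₀.eval (-2) ≠ 0 := fun e => hq₀2 (dvd_iff_isRoot.2 e)
  have hdeg : a + b + h₀.natDegree = n := by
    rw [← hd, hq₁, ((monic_X_sub_C _).pow a).natDegree_mul hq₁m, hq₀,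
      ((monic_X_sub_C _).pow b).natDegree_mul hm₀, natDegree_pow, natDegree_pow, natDegree_X_sub_C,
      natDegree_X_sub_C]
    omega
  obtain ⟨J, S, hJ, hJu, hJS, hS⟩ := exists_symmetrizer hm₀
  obtain ⟨A₀, A₀', Q₀, hA₀, hQ₀, hAQ₀, hc₀, hdet₀⟩ := core_block hJ hJS
  rw [hS, Fintype.card_fin] at hdet₀
  rw [hS] at hc₀
  have hQ₀u : Q₀.det ≠ 0 := by
    rw [hdet₀]
    exact mul_ne_zero (pow_ne_zero _ hJu) (mul_ne_zero (mul_ne_zero (pow_ne_zero _ (neg_ne_zero.2 one_ne_zero)) e2) em2)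
  let κ := Fin (2 * a) ⊕ Fin (2 * b)
  let ε : κ → F := Sum.elim (fun _ => 1) (fun _ => -1)
  obtain ⟨dv, hdv0, hdv⟩ : ∃ dv : κ → F, (∀ i, dv i ≠ 0) ∧ IsSquare (D.det * (Q₀.det * ∏ i, dv i)) := by
    rcases isEmpty_or_nonempty κ with hκ | ⟨⟨i₀⟩⟩
    · refine ⟨fun _ => 1, fun _ => one_ne_zero, ?_⟩
      have hκ0 : 2 * a + 2 * b = 0 := by
        have := Fintype.card_eq_zero (α := κ)
        simp only [κ, Fintype.card_sum, Fintype.card_fin] at this
        exact this
      obtain ⟨ha0, hb0⟩ : a = 0 ∧ b = 0 := by omega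
      have hh : h = h₀ := by rw [hq₁, hq₀, ha0, hb0]; simp
      subst hh
      rcases hr with hr | ⟨r, hr⟩
      · exact absurd hr (mul_ne_zero e2 em2)
      · refine ⟨J.det * r, ?_⟩
        rw [← show h.natDegree = n by omega] at hr
        rw [hdet₀, Finset.prod_const_one]
        linear_combination J.det ^ 2 * hr
    · refine ⟨Function.update (fun _ => 1) i₀ (D.det * Q₀.det), fun i => ?_, ?_⟩
      · by_cases hi : i = i₀
        · subst hi; simp [hDu, hQ₀u]
        · simp [hi]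
      · rw [Finset.prod_update_of_mem (Finset.mem_univ _)]
        exact ⟨D.det * Q₀.det, by simp; ring⟩
  let A₁ : Matrix ((Fin h₀.natDegree ⊕ Fin h₀.natDegree) ⊕ κ) ((Fin h₀.natDegree ⊕ Fin h₀.natDegree) ⊕ κ) F :=
    fromBlocks A₀ 0 0 (diagonal ε)
  let A₁' : Matrix ((Fin h₀.natDegree ⊕ Fin h₀.natDegree) ⊕ κ) ((Fin h₀.natDegree ⊕ Fin h₀.natDegree) ⊕ κ) F :=
    fromBlocks A₀' 0 0 (diagonal ε)
  let Q₁ : Matrix ((Fin h₀.natDegree ⊕ Fin h₀.natDegree) ⊕ κ) ((Fin h₀.natDegree ⊕ Fin h₀.natDegree) ⊕ κ) F :=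
    fromBlocks Q₀ 0 0 (diagonal dv)
  have hε : diagonal ε * diagonal ε = 1 := by
    rw [diagonal_mul_diagonal, ← diagonal_one]
    congr 1
    funext i
    rcases i with i | i <;> simp [ε]
  have h1 : A₁ * A₁' = 1 := by
    rw [fromBlocks_multiply, ← fromBlocks_one]
    simp [hA₀, hε]
  have h1Q : A₁ᵀ * Q₁ * A₁ = Q₁ := by
    rw [fromBlocks_transpose, fromBlocks_multiply, fromBlocks_multiply]
    simp [hAQ₀, Q₁]
    intro i
    rcases i with i | i <;> simp [ε]
  have h1c : (A₁ + A₁').charpoly = h ^ 2 := by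
    have : fromBlocks A₀ 0 0 (diagonal ε) + fromBlocks A₀' 0 0 (diagonal ε) =
        fromBlocks (A₀ + A₀') 0 0 (diagonal fun i => ε i + ε i) := by
      rw [fromBlocks_add, diagonal_add]; simp
    rw [show A₁ + A₁' = _ from this, charpoly_fromBlocks_zero₁₂, hc₀, charpoly_diagonal,
      Fintype.prod_sum_type, hq₁, hq₀]
    simp only [ε, Sum.elim_inl, Sum.elim_inr, Finset.prod_const, Finset.card_univ, Fintype.card_fin,
      one_add_one_eq_two, show (-1 : F) + -1 = -2 by ring]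
    ring
  have hQ₁ : Q₁ᵀ = Q₁ := by simp [Q₁, fromBlocks_transpose, hQ₀]
  have hQ₁d : Q₁.det = Q₀.det * ∏ i, dv i := by
    simp [Q₁, det_fromBlocks_zero₁₂]
  obtain ⟨e⟩ : Nonempty (((Fin h₀.natDegree ⊕ Fin h₀.natDegree) ⊕ κ) ≃ ι) :=
    ⟨Fintype.equivOfCardEq (by simp [κ, hι]; omega)⟩
  let R := Matrix.reindexAlgEquiv F F e
  have hQ₂d : (R Q₁).det = Q₁.det := Matrix.det_reindexAlgEquiv F F e Q₁
  have hQ₂u : IsUnit (R Q₁) := by
    rw [Matrix.isUnit_iff_isUnit_det, isUnit_iff_ne_zero, hQ₂d, hQ₁d]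
    exact mul_ne_zero hQ₀u (Finset.prod_ne_zero_iff.2 fun i _ => hdv0 i)
  have hQ₂ : (R Q₁)ᵀ = R Q₁ := by
    show (Q₁.submatrix e.symm e.symm)ᵀ = Q₁.submatrix e.symm e.symm
    rw [transpose_submatrix, hQ₁]
  have hT : ∀ M, (R M)ᵀ = R Mᵀ := fun M => rfl
  obtain ⟨T, hTu, hTD⟩ := CfsgLib.SpUnip.exists_congr_symm h2 hD
    ((Matrix.isUnit_iff_isUnit_det _).2 (isUnit_iff_ne_zero.2 hDu)) hQ₂ hQ₂u
    (by rw [hQ₂d, hQ₁d]; exact hdv)
  obtain ⟨u, rfl⟩ := hTu
  set U : Matrix ι ι F := (u : Matrix ι ι F) with hU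
  set U' : Matrix ι ι F := (↑u⁻¹ : Matrix ι ι F) with hU'
  have hUU' : U * U' = 1 := u.mul_inv
  have hU'U : U' * U = 1 := u.inv_mul
  refine ⟨U * R A₁ * U', U * R A₁' * U', ?_, ?_, ?_⟩
  · calc U * R A₁ * U' * (U * R A₁' * U') = U * (R A₁ * (U' * U) * R A₁') * U' := by
          simp only [Matrix.mul_assoc]
      _ = 1 := by rw [hU'U, Matrix.mul_one, ← map_mul, h1, map_one, Matrix.mul_one, hUU']
  · have hA : (R A₁)ᵀ * (Uᵀ * D * U) * R A₁ = R Q₁ := by rw [hTD, hT, ← map_mul, ← map_mul, h1Q]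
    have hUt : U'ᵀ * Uᵀ = 1 := by rw [← transpose_mul, hUU', transpose_one]
    calc (U * R A₁ * U')ᵀ * D * (U * R A₁ * U')
        = U'ᵀ * ((R A₁)ᵀ * (Uᵀ * D * U) * R A₁) * U' := by
          simp only [transpose_mul, Matrix.mul_assoc]
      _ = U'ᵀ * (Uᵀ * D * U) * U' := by rw [hA, hTD]
      _ = (U'ᵀ * Uᵀ) * D * (U * U') := by simp only [Matrix.mul_assoc]
      _ = D := by rw [hUt, hUU', Matrix.one_mul, Matrix.mul_one]
  · rw [← Matrix.add_mul, ← Matrix.mul_add, ← map_add, hU, hU', Matrix.coe_units_inv, charpoly_units_conj]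
    show (Matrix.reindex e e (A₁ + A₁')).charpoly = _
    rw [charpoly_reindex, h1c]

end CfsgLib.OClassNum
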