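import Cfsg.Agent.Lib.SpUnipClass.Forms

/-!
Invariant symmetric forms of a unipotent matrix of given Jordan type, up to the commutant: the
analogue of `Lib.SpUnipClass.Forms`, with the discriminants at the odd block sizes.
-/

set_option autoImplicit false

namespace CfsgLib.OClassNum

open Matrix CfsgLib.UnipotentGL
open CfsgLib.SpUnip (Com bv pair pair_apply gram gram_apply fst lst top top_apply top_eq_zero blk blk_apply blk_one
  blk_sub blk_mul sum_eq_sum_block col_last_zero isUnit_of_blk pow_eq_zero_of_blk lift lift_com blk_lift Rel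
  disc two_ne_zero_char exists_congr_symm exists_congr_skew)

variable {F : Type*} [Field F] {t : ℕ} {d : Fin t → ℕ}

local notation "Jm" => Cfsg.jordanTypeMatrix d F

/-- A symmetric matrix invariant under the unipotent matrix. -/
structure IsInv (B : Matrix (Idx d) (Idx d) F) : Prop where
  symm : Bᵀ = B
  inv : (Cfsg.jordanTypeMatrix d F)ᵀ * B * Cfsg.jordanTypeMatrix d F = B

variable {B : Matrix (Idx d) (Idx d) F}

theorem bv_swap (hB : IsInv B) (k l : Fin t) (a b : ℕ) : bv B l b k a = bv B k a l b := by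
  simp only [bv]
  by_cases h : a < d k ∧ b < d l
  · rw [dif_pos h, dif_pos h.symm]
    exact congrFun (congrFun hB.symm ⟨k, ⟨a, h.1⟩⟩) ⟨l, ⟨b, h.2⟩⟩
  · rw [dif_neg h, dif_neg fun h' => h h'.symm]

theorem bv_rel (hB : IsInv B) {k l : Fin t} {a b : ℕ} (ha : a < d k) (hb : b < d l) :
    bv B k (a + 1) l b + bv B k a l (b + 1) + bv B k (a + 1) l (b + 1) = 0 := by
  have key : ∀ (u : Idx d), (B * Jm) u ⟨l, ⟨b, hb⟩⟩ =
      bv B u.1 u.2.1 l b + bv B u.1 u.2.1 l (b + 1) := by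
    rintro ⟨k', a', ha'⟩
    have h : (B * Jm) ⟨k', ⟨a', ha'⟩⟩ ⟨l, ⟨b, hb⟩⟩ =
        Matrix.vecMul (fun z => B ⟨k', ⟨a', ha'⟩⟩ z) Jm ⟨l, ⟨b, hb⟩⟩ := rfl
    rw [h, J_vecMul]
    simp only [bv, suc, dif_pos (And.intro ha' hb)]
    congr 1
    split_ifs <;> first | rfl | omega
  have h := congrFun (congrFun hB.inv ⟨k, ⟨a, ha⟩⟩) ⟨l, ⟨b, hb⟩⟩
  rw [Matrix.mul_assoc] at h
  have h' : ((Jm)ᵀ * (B * Jm)) ⟨k, ⟨a, ha⟩⟩ ⟨l, ⟨b, hb⟩⟩ =
      Matrix.vecMul (fun z => (B * Jm) z ⟨l, ⟨b, hb⟩⟩) Jm ⟨k, ⟨a, ha⟩⟩ := by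
    simp only [Matrix.mul_apply', Matrix.vecMul, dotProduct, Matrix.transpose_apply]
    exact Finset.sum_congr rfl fun z _ => mul_comm _ _
  rw [h', J_vecMul] at h
  simp only [key] at h
  have h0 : B ⟨k, ⟨a, ha⟩⟩ ⟨l, ⟨b, hb⟩⟩ = bv B k a l b := by rw [bv, dif_pos ⟨ha, hb⟩]
  rw [h0] at h
  by_cases hs : a + 1 < d k
  · rw [dif_pos hs] at h
    simp only [suc] at h
    linear_combination h
  · rw [dif_neg hs, add_zero] at h
    have hz : ∀ b, bv B k (a + 1) l b = 0 := fun b => dif_neg fun h => hs h.1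
    rw [hz, hz]
    linear_combination h

theorem bv_eq_zero (hB : IsInv B) (k l : Fin t) (a b : ℕ) (h : d k ≤ a + b) :
    bv B k a l b = 0 := by
  have key : ∀ n a, d k ≤ a + n → ∀ b, d k ≤ a + b → bv B k a l b = 0 := by
    intro n
    induction n with
    | zero => intro a ha b _; exact dif_neg fun h => by omega
    | succ n ih =>
      intro a ha b hab
      by_cases h' : a < d k ∧ b < d l
      · obtain ⟨c, rfl⟩ : ∃ c, b = c + 1 := ⟨b - 1, by omega⟩
        have hr := bv_rel hB (l := l) (b := c) h'.1 (by omega)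
        rw [ih (a + 1) (by omega) c (by omega), ih (a + 1) (by omega) (c + 1) (by omega)] at hr
        simpa using hr
      · exact dif_neg h'
  exact key (d k) a (by omega) b h

theorem bv_eq_zero' (hB : IsInv B) (k l : Fin t) (a b : ℕ) (h : d l ≤ a + b) :
    bv B k a l b = 0 := by
  rw [bv_swap hB l k b a, bv_eq_zero hB l k b a (by omega)]

theorem bv_anti (hB : IsInv B) {k l : Fin t} {j : ℕ} (hk : d k = j) (hl : d l = j) :
    ∀ a, a < j → bv B k a l (j - 1 - a) = (-1) ^ a * bv B k 0 l (j - 1) := by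
  intro a
  induction a with
  | zero => intro _; simp
  | succ a ih =>
    intro ha
    have hr := bv_rel hB (k := k) (l := l) (a := a) (b := j - 1 - (a + 1)) (by omega) (by omega)
    rw [show j - 1 - (a + 1) + 1 = j - 1 - a by omega, bv_eq_zero hB k l (a + 1) (j - 1 - a) (by omega),
      ih (by omega)] at hr
    rw [pow_succ]
    linear_combination hr

variable (hd : ∀ k, 0 < d k)

theorem pair_eq_zero (hB : IsInv B) {k l : Fin t} (h : d l < d k) : pair hd B k l = 0 := by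
  rw [pair_apply, bv_eq_zero' hB]
  omega

theorem gram_transpose (hB : IsInv B) (j : ℕ) :
    (gram hd B j)ᵀ = (-(-1 : F) ^ j) • gram hd B j := by
  ext ⟨k, hk⟩ ⟨l, hl⟩
  rw [Matrix.transpose_apply, Matrix.smul_apply, gram_apply, gram_apply, pair_apply, pair_apply,
    hk, hl, smul_eq_mul]
  have := hd k
  have h1 := bv_anti hB (k := l) (l := k) hl hk (j - 1) (by omega)
  rw [Nat.sub_self] at h1
  have hs : bv B k (j - 1) l 0 = bv B l 0 k (j - 1) := bv_swap hB l k 0 (j - 1)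
  rw [h1, hs, show j = j - 1 + 1 by omega, pow_succ, Nat.add_sub_cancel]
  ring

theorem gram_det_ne_zero (hB : IsInv B) (hu : IsUnit B) (j : ℕ) : (gram hd B j).det ≠ 0 := by
  have htri : (pair hd B).BlockTriangular d := fun k l h => pair_eq_zero hd hB h
  have hdet : (pair hd B).det ≠ 0 := by
    intro h0
    obtain ⟨u, hu0, huv⟩ := Matrix.exists_vecMul_eq_zero_iff.2 h0
    apply hu0
    let w : Idx d → F := fun x => if x.2.1 = d x.1 - 1 then u x.1 else 0
    have hw : w ᵥ* B = 0 := by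
      funext ⟨l, b, hb⟩
      rw [Matrix.vecMul, dotProduct, Fintype.sum_sigma, Pi.zero_apply]
      have : ∀ k : Fin t, ∑ a : Fin (d k), w ⟨k, a⟩ * B ⟨k, a⟩ ⟨l, ⟨b, hb⟩⟩ =
          u k * bv B k (d k - 1) l b := by
        intro k
        have := hd k
        rw [Finset.sum_eq_single (⟨d k - 1, by omega⟩ : Fin (d k))]
        · rw [bv, dif_pos ⟨by omega, hb⟩]
          simp [w]
        · rintro ⟨a, ha⟩ - hne
          have ha' : a ≠ d k - 1 := fun h => hne (Fin.ext h)
          simp [w, ha']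
        · simp
      rw [Finset.sum_congr rfl fun k _ => this k]
      rcases Nat.eq_zero_or_pos b with rfl | hb0
      · have := congrFun huv l
        simpa [Matrix.vecMul, dotProduct, pair_apply] using this
      · refine Finset.sum_eq_zero fun k _ => ?_
        rw [bv_eq_zero hB k l _ b (by have := hd k; omega), mul_zero]
    have := Matrix.vecMul_injective_iff_isUnit.2 hu (hw.trans (Matrix.zero_vecMul B).symm)
    funext k
    have h := congrFun this (lst hd k)
    simpa [w, lst] using h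
  rw [htri.det, Finset.prod_ne_zero_iff] at hdet
  by_cases hj : j ∈ Finset.univ.image d
  · exact hdet j hj
  · haveI : IsEmpty {k // d k = j} := ⟨fun k => hj (Finset.mem_image.mpr ⟨k.1, Finset.mem_univ _, k.2⟩)⟩
    rw [Matrix.det_isEmpty]
    exact one_ne_zero

/-- The effect of the commutant on the blocks of the pairing. -/
theorem gram_congr (hB : IsInv B) {X Y : Matrix (Idx d) (Idx d) F} (hX : Com X) (hY : Com Y) (j : ℕ) :
    gram hd (Yᵀ * B * X) j = (blk hd Y j)ᵀ * gram hd B j * blk hd X j := by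
  ext ⟨i, hi⟩ ⟨l, hl⟩
  have step1 : ∀ x : Idx d, (Yᵀ * B) (lst hd i) x = ∑ k, Y (lst hd k) (lst hd i) * B (lst hd k) x := by
    intro x
    rw [Matrix.mul_apply, Fintype.sum_sigma]
    refine Finset.sum_congr rfl fun k _ => ?_
    have := hd k
    rw [Finset.sum_eq_single (⟨d k - 1, by omega⟩ : Fin (d k))]
    · rfl
    · rintro ⟨a, ha⟩ - hne
      have ha' : a ≠ d k - 1 := fun h => hne (Fin.ext h)
      rw [Matrix.transpose_apply, col_last_zero hd hY k i a ha (by omega), zero_mul]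
    · simp
  have step2 : ∀ k, ∑ x : Idx d, B (lst hd k) x * X x (fst hd l) =
      ∑ s, pair hd B k s * top hd X s l := by
    intro k
    rw [Fintype.sum_sigma]
    refine Finset.sum_congr rfl fun s _ => ?_
    rw [Finset.sum_eq_single (⟨0, hd s⟩ : Fin (d s))]
    · rfl
    · rintro ⟨b, hb⟩ - hne
      have hb0 : b ≠ 0 := fun h => hne (Fin.ext h)
      have := hd k
      have hz := bv_eq_zero hB k s (d k - 1) b (by omega)
      rw [bv, dif_pos ⟨by omega, hb⟩] at hz
      rw [lst, hz, zero_mul]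
    · simp
  have hU : ∀ k, Y (lst hd k) (lst hd i) = if d i ≤ d k then
      Y ⟨k, ⟨d k - 1 - (d i - 1), lt_of_le_of_lt (Nat.sub_le _ _) (Nat.sub_lt (hd k) one_pos)⟩⟩
        (fst hd i) else 0 := by
    intro k
    have := hd i
    have := hd k
    rw [lst, lst, shift hY k i (d i - 1) (by omega) (d k - 1) (by omega)]
    simp only [show d i - 1 ≤ d k - 1 ↔ d i ≤ d k by omega, fst]
  have hLHS : gram hd (Yᵀ * B * X) j ⟨i, hi⟩ ⟨l, hl⟩ =
      ∑ k, Y (lst hd k) (lst hd i) * ∑ s, pair hd B k s * top hd X s l := by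
    rw [gram_apply]
    show (Yᵀ * B * X) (lst hd i) (fst hd l) = _
    rw [Matrix.mul_apply]
    simp only [step1, Finset.sum_mul, mul_assoc]
    rw [Finset.sum_comm]
    exact Finset.sum_congr rfl fun k _ => by rw [← Finset.mul_sum, step2]
  rw [hLHS, Matrix.mul_assoc, Matrix.mul_apply]
  rw [sum_eq_sum_block (j := j) (fun k hk => ?_)]
  · refine Finset.sum_congr rfl fun k _ => ?_
    congr 1
    · rw [Matrix.transpose_apply, blk_apply, top_apply, hU, if_pos (by rw [hi, k.2])]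
      simp only [fst, hi, k.2, Nat.sub_self]
    · rw [Matrix.mul_apply]
      refine sum_eq_sum_block fun s hs => ?_
      obtain ⟨h1, h2⟩ := mul_ne_zero_iff.1 hs
      have h1' : ¬ d s < d k.1 := fun h => h1 (pair_eq_zero hd hB h)
      have h2' : ¬ d l < d s := fun h => h2 (top_eq_zero hd hX h)
      have := k.2
      omega
  · obtain ⟨h1, h2⟩ := mul_ne_zero_iff.1 hk
    obtain ⟨s, -, hs⟩ := Finset.exists_ne_zero_of_sum_ne_zero h2
    obtain ⟨h3, h4⟩ := mul_ne_zero_iff.1 hs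
    have h1' : d i ≤ d k := by
      by_contra h
      rw [hU, if_neg h] at h1
      exact h1 rfl
    have h3' : ¬ d s < d k := fun h => h3 (pair_eq_zero hd hB h)
    have h4' : ¬ d l < d s := fun h => h4 (top_eq_zero hd hX h)
    omega

theorem gram_mul (hB : IsInv B) {X : Matrix (Idx d) (Idx d) F} (hX : Com X) (j : ℕ) :
    gram hd (B * X) j = gram hd B j * blk hd X j := by
  have := gram_congr hd hB hX Com.one j
  rwa [transpose_one, Matrix.one_mul, blk_one, transpose_one, Matrix.one_mul] at this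

theorem gram_transpose_mul (hB : IsInv B) {X : Matrix (Idx d) (Idx d) F} (hX : Com X) (j : ℕ) :
    gram hd (Xᵀ * B) j = (blk hd X j)ᵀ * gram hd B j := by
  have := gram_congr hd hB Com.one hX j
  rwa [Matrix.mul_one, blk_one, Matrix.mul_one] at this

theorem isInv_congr (hB : IsInv B) {X : Matrix (Idx d) (Idx d) F} (hX : Com X) :
    IsInv (Xᵀ * B * X) := by
  refine ⟨?_, ?_⟩
  · rw [transpose_mul, transpose_mul, transpose_transpose, hB.symm, Matrix.mul_assoc]
  · calc (Jm)ᵀ * (Xᵀ * B * X) * Jm = (X * Jm)ᵀ * B * (X * Jm) := by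
          rw [transpose_mul]; simp only [Matrix.mul_assoc]
      _ = Xᵀ * ((Jm)ᵀ * B * Jm) * X := by rw [hX, transpose_mul]; simp only [Matrix.mul_assoc]
      _ = Xᵀ * B * X := by rw [hB.inv]

theorem exists_ratio {B₀ B₁ : Matrix (Idx d) (Idx d) F} (h₀ : IsInv B₀) (u₀ : IsUnit B₀)
    (h₁ : IsInv B₁) : ∃ a : Matrix (Idx d) (Idx d) F, Com a ∧ B₀ * a = B₁ ∧ aᵀ * B₀ = B₁ := by
  have hdet : IsUnit B₀.det := (Matrix.isUnit_iff_isUnit_det _).1 u₀
  have e1 : B₀ * B₀⁻¹ = 1 := Matrix.mul_nonsing_inv _ hdet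
  have e2 : B₀⁻¹ * B₀ = 1 := Matrix.nonsing_inv_mul _ hdet
  have e3 : Jm * (B₀⁻¹ * (Jm)ᵀ) = B₀⁻¹ := by
    have h : (B₀⁻¹ * (Jm)ᵀ) * (B₀ * Jm) = 1 := by
      rw [Matrix.mul_assoc, ← Matrix.mul_assoc (Jm)ᵀ, h₀.inv, e2]
    have h' := mul_eq_one_comm.1 h
    calc Jm * (B₀⁻¹ * (Jm)ᵀ) = B₀⁻¹ * (B₀ * Jm * (B₀⁻¹ * (Jm)ᵀ)) := by
          rw [Matrix.mul_assoc B₀, ← Matrix.mul_assoc B₀⁻¹ B₀, e2, Matrix.one_mul]
      _ = B₀⁻¹ := by rw [h', Matrix.mul_one]
  refine ⟨B₀⁻¹ * B₁, ?_, by rw [← Matrix.mul_assoc, e1, Matrix.one_mul], ?_⟩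
  · rw [Com]
    calc B₀⁻¹ * B₁ * Jm = Jm * (B₀⁻¹ * (Jm)ᵀ) * B₁ * Jm := by rw [e3]
      _ = Jm * (B₀⁻¹ * ((Jm)ᵀ * B₁ * Jm)) := by simp only [Matrix.mul_assoc]
      _ = _ := by rw [h₁.inv]
  · rw [transpose_mul, h₁.symm, Matrix.transpose_nonsing_inv, h₀.symm, Matrix.mul_assoc, e2,
      Matrix.mul_one]

theorem isUnit_of_gram {B₀ B₁ : Matrix (Idx d) (Idx d) F} (h₀ : IsInv B₀) (u₀ : IsUnit B₀)
    (h₁ : IsInv B₁) (hg : ∀ j, IsUnit (gram hd B₁ j)) : IsUnit B₁ := by
  obtain ⟨a, ha, hab, -⟩ := exists_ratio h₀ u₀ h₁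
  rw [← hab]
  refine u₀.mul (isUnit_of_blk hd ha fun j => ?_)
  have h := hg j
  rw [← hab, gram_mul hd h₀ ha, Matrix.isUnit_iff_isUnit_det, Matrix.det_mul,
    IsUnit.mul_iff] at h
  exact (Matrix.isUnit_iff_isUnit_det _).2 h.2

variable (p : ℕ) [Fact p.Prime] [CharP F p]

/-- Forms with the same blocks are congruent. -/
theorem rel_of_gram_eq (hp : p ≠ 2) {B₀ B₁ : Matrix (Idx d) (Idx d) F} (h₀ : IsInv B₀)
    (u₀ : IsUnit B₀) (h₁ : IsInv B₁) (hg : ∀ j, gram hd B₀ j = gram hd B₁ j) : Rel B₀ B₁ := by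
  obtain ⟨a, ha, hab, hab'⟩ := exists_ratio h₀ u₀ h₁
  have hblk : ∀ j, blk hd (a - 1) j = 0 := fun j => by
    have hu : IsUnit (gram hd B₀ j) := (Matrix.isUnit_iff_isUnit_det _).2
      (isUnit_iff_ne_zero.2 (gram_det_ne_zero hd h₀ u₀ j))
    have : gram hd B₀ j * blk hd a j = gram hd B₀ j * 1 := by
      rw [← gram_mul hd h₀ ha, hab, hg, Matrix.mul_one]
    rw [blk_sub, blk_one, hu.mul_left_cancel this, sub_self]
  have hnil := pow_eq_zero_of_blk hd (ha.sub Com.one) hblk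
  set N := (Finset.univ.sup d + 1) * (Finset.univ.sup d + 1)
  have hNp : N ≤ p ^ N := (Nat.lt_pow_self (Fact.out : p.Prime).one_lt).le
  have hpow : a ^ (p ^ N) = 1 := by
    rcases isEmpty_or_nonempty (Idx d) with hI | hI
    · exact Subsingleton.elim _ _
    · have h := sub_pow_char_pow_of_commute (R := Matrix (Idx d) (Idx d) F) (p := p) (n := N)
        (x := a) (y := 1) (Commute.one_right a)
      rw [pow_eq_zero_of_le hNp hnil, one_pow, eq_comm, sub_eq_zero] at h
      exact h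
  obtain ⟨e, he⟩ : ∃ e, p ^ N + 1 = e + e := by
    have : Odd (p ^ N) := ((Fact.out : p.Prime).odd_of_ne_two hp).pow
    exact this.add_one
  have haa : a ^ e * a ^ e = a := by rw [← pow_add, ← he, pow_succ, hpow, one_mul]
  have hsemi : SemiconjBy B₀ (a ^ e) (aᵀ ^ e) :=
    (show SemiconjBy B₀ a aᵀ by rw [SemiconjBy, hab, hab']).pow_right e
  have hunit : IsUnit (a ^ e) :=
    (IsUnit.of_pow_eq_one hpow (pow_ne_zero _ (Fact.out : p.Prime).pos.ne')).pow e
  exact ⟨a ^ e, hunit, ha.pow e, by rw [transpose_pow, ← hsemi.eq, Matrix.mul_assoc, haa, hab]⟩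

variable [Fintype F]

omit [Fintype F] in
theorem gram_symm (hB : IsInv B) {j : ℕ} (hj : Odd j) : (gram hd B j)ᵀ = gram hd B j := by
  rw [gram_transpose hd hB, hj.neg_one_pow, neg_neg, one_smul]

omit [Fintype F] in
theorem gram_skew (hB : IsInv B) {j : ℕ} (hj : Even j) : (gram hd B j)ᵀ = -gram hd B j := by
  rw [gram_transpose hd hB, hj.neg_one_pow, neg_one_smul]

/-- Forms with the same invariant are congruent. -/
theorem rel_of_disc (hp : p ≠ 2) {B₀ B₁ : Matrix (Idx d) (Idx d) F} (h₀ : IsInv B₀) (u₀ : IsUnit B₀)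
    (h₁ : IsInv B₁) (u₁ : IsUnit B₁)
    (h : ∀ j, Odd j → j ∈ Finset.univ.image d → (disc hd B₀ j ↔ disc hd B₁ j)) : Rel B₀ B₁ := by
  have h2 := two_ne_zero_char (F := F) p hp
  have hS : ∀ j, ∃ S : Matrix {k // d k = j} {k // d k = j} F,
      IsUnit S ∧ Sᵀ * gram hd B₀ j * S = gram hd B₁ j := by
    intro j
    have g₀ := gram_det_ne_zero hd h₀ u₀ j
    have g₁ := gram_det_ne_zero hd h₁ u₁ j
    have v₀ := (Matrix.isUnit_iff_isUnit_det _).2 (isUnit_iff_ne_zero.2 g₀)
    have v₁ := (Matrix.isUnit_iff_isUnit_det _).2 (isUnit_iff_ne_zero.2 g₁)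
    rcases (Nat.even_or_odd j).symm with hj | hj
    · refine exists_congr_symm h2 (gram_symm hd h₀ hj) v₀ (gram_symm hd h₁ hj) v₁
        ((CfsgLib.FormsDisc.isSquare_mul_iff_of_odd h2 g₀ g₁).2 ?_)
      by_cases hmem : j ∈ Finset.univ.image d
      · exact h j hj hmem
      · haveI : IsEmpty {k // d k = j} :=
          ⟨fun k => hmem (Finset.mem_image.mpr ⟨k.1, Finset.mem_univ _, k.2⟩)⟩
        simp [Matrix.det_isEmpty]
    · exact exists_congr_skew h2 (gram_skew hd h₀ hj) v₀ (gram_skew hd h₁ hj) v₁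
  choose S hSu hSe using hS
  have hL : IsUnit (lift S) := isUnit_of_blk hd (lift_com S) fun j => by rw [blk_lift]; exact hSu j
  refine (show Rel B₀ ((lift S)ᵀ * B₀ * lift S) from ⟨_, hL, lift_com S, rfl⟩).trans
    (rel_of_gram_eq hd p hp (isInv_congr h₀ (lift_com S)) ?_ h₁ fun j => ?_)
  · exact ((Matrix.isUnit_transpose _).2 hL |>.mul u₀).mul hL
  · rw [gram_congr hd h₀ (lift_com S) (lift_com S), blk_lift, hSe]

omit [Fintype F] in
theorem det_lift (S : ∀ j, Matrix {k // d k = j} {k // d k = j} F) :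
    (lift S).det = ∏ j ∈ Finset.univ.image d, (S j).det ^ j := by
  classical
  let b : Idx d → ℕ ×ₗ ℕ := fun x => toLex (d x.1, (x.2 : ℕ))
  have htri : (lift S).BlockTriangular b := fun x y hxy => by
    simp only [CfsgLib.SpUnip.lift, Matrix.of_apply]
    rw [dif_neg]
    rintro ⟨h1, h2⟩
    simp only [b, h1, h2, lt_self_iff_false] at hxy
  rw [htri.det]
  have himg : Finset.univ.image b =
      (Finset.univ.image d).biUnion fun j => (Finset.range j).image fun a => toLex (j, a) := by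
    ext z
    simp only [Finset.mem_image, Finset.mem_univ, true_and, Finset.mem_biUnion, Finset.mem_range]
    constructor
    · rintro ⟨x, rfl⟩; exact ⟨d x.1, ⟨x.1, rfl⟩, (x.2 : ℕ), x.2.2, rfl⟩
    · rintro ⟨j, ⟨k, rfl⟩, a, ha, rfl⟩; exact ⟨⟨k, ⟨a, ha⟩⟩, rfl⟩
  rw [himg, Finset.prod_biUnion]
  · refine Finset.prod_congr rfl fun j _ => ?_
    rw [Finset.prod_image fun a _ a' _ h => (Prod.ext_iff.1 (toLex.injective h)).2,
      Finset.prod_congr rfl fun a ha => ?_, Finset.prod_const, Finset.card_range]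
    have haj := Finset.mem_range.1 ha
    let e : {k // d k = j} ≃ {x : Idx d // b x = toLex (j, a)} :=
      { toFun := fun k => ⟨⟨k.1, ⟨a, by rw [k.2]; exact haj⟩⟩, by simp [b, k.2]⟩
        invFun := fun x => ⟨x.1.1, (Prod.ext_iff.1 (toLex.injective x.2)).1⟩
        left_inv := fun k => rfl
        right_inv := fun x => by
          obtain ⟨⟨k, i⟩, hx⟩ := x
          exact Subtype.ext (Sigma.ext rfl (heq_of_eq (Fin.ext (Prod.ext_iff.1 (toLex.injective hx)).2.symm))) }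
    rw [← Matrix.det_submatrix_equiv_self e]
    congr 1
    ext ⟨k, hk⟩ ⟨l, hl⟩
    subst hk
    simp only [Matrix.submatrix_apply, Matrix.toSquareBlock, Matrix.toSquareBlockProp, Matrix.toBlock,
      CfsgLib.SpUnip.lift, e, Equiv.coe_fn_mk, Matrix.of_apply]
    rw [dif_pos ⟨hl, trivial⟩]
  · intro j _ j' _ hjj'
    simp only [Function.onFun, Finset.disjoint_left, Finset.mem_image]
    rintro z ⟨a, -, rfl⟩ ⟨a', -, h⟩
    exact hjj' (Prod.ext_iff.1 (toLex.injective h)).1.symm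

omit [Fintype F] in
include p in
theorem det_com {a : Matrix (Idx d) (Idx d) F} (ha : Com a) (hu : ∀ j, IsUnit (blk hd a j)) :
    a.det = ∏ j ∈ Finset.univ.image d, (blk hd a j).det ^ j := by
  classical
  set L := lift fun j => (blk hd a j)⁻¹
  have hL : Com L := lift_com _
  have hblk : ∀ j, blk hd (L * a - 1) j = 0 := fun j => by
    rw [blk_sub, blk_mul hd hL ha, blk_lift, blk_one,
      Matrix.nonsing_inv_mul _ ((Matrix.isUnit_iff_isUnit_det _).1 (hu j)), sub_self]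
  have hnil := pow_eq_zero_of_blk hd ((hL.mul ha).sub CfsgLib.SpUnip.Com.one) hblk
  set N := (Finset.univ.sup d + 1) * (Finset.univ.sup d + 1)
  have h1 : (L * a).det = 1 := by
    rcases isEmpty_or_nonempty (Idx d) with hI | hI
    · exact Matrix.det_isEmpty
    · have h := sub_pow_char_pow_of_commute (R := Matrix (Idx d) (Idx d) F) (p := p) (n := N)
        (x := L * a) (y := 1) (Commute.one_right _)
      rw [pow_eq_zero_of_le (Nat.lt_pow_self (Fact.out : p.Prime).one_lt).le hnil, one_pow, eq_comm,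
        sub_eq_zero] at h
      have h' := congrArg Matrix.det h
      rw [Matrix.det_pow, Matrix.det_one] at h'
      have h0 : ((L * a).det - 1) ^ p ^ N = 0 := by rw [sub_pow_char_pow, h', one_pow, sub_self]
      exact sub_eq_zero.1 (pow_eq_zero_iff (pow_ne_zero _ (Fact.out : p.Prime).ne_zero) |>.1 h0)
  rw [Matrix.det_mul, det_lift] at h1
  have h2 : (∏ j ∈ Finset.univ.image d, ((blk hd a j)⁻¹).det ^ j) *
      ∏ j ∈ Finset.univ.image d, (blk hd a j).det ^ j = 1 := by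
    rw [← Finset.prod_mul_distrib]
    refine Finset.prod_eq_one fun j _ => ?_
    rw [← mul_pow, ← Matrix.det_mul,
      Matrix.nonsing_inv_mul _ ((Matrix.isUnit_iff_isUnit_det _).1 (hu j)), Matrix.det_one, one_pow]
  exact mul_left_cancel₀ (left_ne_zero_of_mul_eq_one h2) (h1.trans h2.symm)

include p in
/-- Forms whose discriminants differ at exactly one odd block size have different discriminants. -/
theorem not_isSquare_det (hp : p ≠ 2) {B₀ B₁ : Matrix (Idx d) (Idx d) F} (h₀ : IsInv B₀) (u₀ : IsUnit B₀)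
    (h₁ : IsInv B₁) (u₁ : IsUnit B₁) {j₀ : ℕ} (hj₀ : Odd j₀) (hm : j₀ ∈ Finset.univ.image d)
    (h : ∀ j, Odd j → j ∈ Finset.univ.image d → j ≠ j₀ → (disc hd B₀ j ↔ disc hd B₁ j))
    (hne : ¬ (disc hd B₀ j₀ ↔ disc hd B₁ j₀)) : ¬ IsSquare (B₀.det * B₁.det) := by
  classical
  have h2 := two_ne_zero_char (F := F) p hp
  obtain ⟨a, ha, hab, -⟩ := exists_ratio h₀ u₀ h₁
  have g := fun j => gram_det_ne_zero hd h₀ u₀ j
  have g' := fun j => gram_det_ne_zero hd h₁ u₁ j
  have hg : ∀ j, (gram hd B₁ j).det = (gram hd B₀ j).det * (blk hd a j).det := fun j => by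
    rw [← hab, gram_mul hd h₀ ha, Matrix.det_mul]
  have hb : ∀ j, (blk hd a j).det ≠ 0 := fun j => right_ne_zero_of_mul (hg j ▸ g' j)
  have hsq : ∀ j, IsSquare ((blk hd a j).det) ↔ (disc hd B₀ j ↔ disc hd B₁ j) := fun j => by
    rw [disc, disc, ← CfsgLib.FormsDisc.isSquare_mul_iff_of_odd h2 (g j) (g' j), hg,
      show (gram hd B₀ j).det * ((gram hd B₀ j).det * (blk hd a j).det) =
        (blk hd a j).det * (gram hd B₀ j).det ^ 2 by ring,
      CfsgLib.FormsDisc.isSquare_mul_sq_iff (g j)]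
  rw [← hab, Matrix.det_mul, det_com hd p ha fun j => (Matrix.isUnit_iff_isUnit_det _).2 (Ne.isUnit (hb j)),
    ← Finset.mul_prod_erase _ _ hm]
  obtain ⟨r, hr⟩ := Finset.isSquare_prod (s := (Finset.univ.image d).erase j₀)
    (fun j => (blk hd a j).det ^ j) fun j hj => by
      rcases Nat.even_or_odd j with hev | hod
      · exact hev.isSquare_pow _
      · obtain ⟨hne', hmem⟩ := Finset.mem_erase.1 hj
        exact ((hsq j).2 (h j hod hmem hne')).pow j
  have hr0 : r ≠ 0 := fun e => by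
    rw [e, mul_zero] at hr
    exact Finset.prod_ne_zero_iff.2 (fun j _ => pow_ne_zero j (hb j)) hr
  obtain ⟨c, rfl⟩ := hj₀
  rw [hr, show B₀.det * (B₀.det * ((blk hd a (2 * c + 1)).det ^ (2 * c + 1) * (r * r))) =
      (blk hd a (2 * c + 1)).det * ((blk hd a (2 * c + 1)).det ^ c * r * B₀.det) ^ 2 by ring,
    CfsgLib.FormsDisc.isSquare_mul_sq_iff (mul_ne_zero (mul_ne_zero (pow_ne_zero _ (hb _)) hr0)
      ((Matrix.isUnit_iff_isUnit_det _).1 u₀).ne_zero)]
  exact fun hs => hne ((hsq _).1 hs)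

end CfsgLib.OClassNum
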