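import Cfsg.Agent.Lib.SpClassNum.Label
import Cfsg.Agent.Lib.OClassNum.Forms
import Cfsg.Agent.Lib.OClassNum.Keys

/-!
Unipotent isometries of symmetric forms (signed Jordan types), and isometries without eigenvalues
`±1`, reduced to the alternating case.
-/

set_option autoImplicit false

namespace CfsgLib.OClassNum

open Matrix CfsgLib.UnipotentGL CfsgLib.UnipotentClassical CfsgLib.SpClassNum
open CfsgLib.SpUnip (disc gram two_ne_zero_char exists_symp_coords)

variable {F V : Type*} [Field F] [AddCommGroup V] [Module F V]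

/-- A non-degenerate symmetric form and an isometry of it. -/
structure IsSIsom (B : V →ₗ[F] V →ₗ[F] F) (G : V ≃ₗ[F] V) : Prop where
  symm : ∀ x y, B x y = B y x
  nondeg : ∀ v, (∀ w, B v w = 0) → v = 0
  inv : ∀ x y, B (G x) (G y) = B x y

section Form

variable {t : ℕ} {d : Fin t → ℕ} {B : V →ₗ[F] V →ₗ[F] F} {G : V ≃ₗ[F] V}

theorem fmat_isInv (h : IsSIsom B G) {e : (Idx d → F) ≃ₗ[F] V}
    (he : ∀ v, e (jt F d v) = G (e v)) : IsInv (fmat B e) := by
  refine ⟨?_, ?_⟩
  · ext i j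
    simp only [fmat, Matrix.transpose_apply, LinearMap.toMatrix₂'_apply, LinearMap.compl₁₂_apply]
    exact h.symm _ _
  · have key : (B.compl₁₂ e.toLinearMap e.toLinearMap).compl₁₂ (jt F d) (jt F d) =
        B.compl₁₂ e.toLinearMap e.toLinearMap :=
      LinearMap.ext₂ fun x y => by simp [he, h.inv]
    have hJ : LinearMap.toMatrix' (jt F d) = Cfsg.jordanTypeMatrix d F :=
      LinearMap.toMatrix'_toLin' _
    rw [fmat, ← hJ, ← LinearMap.toMatrix₂'_compl₁₂, key]

theorem fmat_isUnit (h : IsSIsom B G) (e : (Idx d → F) ≃ₗ[F] V) : IsUnit (fmat B e) := by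
  rw [Matrix.isUnit_iff_isUnit_det, isUnit_iff_ne_zero]
  intro h0
  obtain ⟨v, hv0, hv⟩ := Matrix.exists_mulVec_eq_zero_iff.2 h0
  refine hv0 (e.map_eq_zero_iff.1 (h.nondeg _ fun w => ?_))
  obtain ⟨u, rfl⟩ := e.surjective w
  have : B (e u) (e v) = u ⬝ᵥ fmat B e *ᵥ v := by
    rw [← Matrix.toLinearMap₂'_apply', fmat, Matrix.toLinearMap₂'_toMatrix']
    rfl
  rw [h.symm, this, hv, dotProduct_zero]

end Form

/-- The signed Jordan type of a unipotent isometry of a symmetric form. -/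
def IsOData (B : V →ₗ[F] V →ₗ[F] F) (G : V ≃ₗ[F] V) (μ : Multiset ℕ) (s : ℕ → Bool) : Prop :=
  ∃ (hpos : ∀ k, 0 < mdims μ k) (e : (Idx (mdims μ) → F) ≃ₗ[F] V),
    (∀ v, e (jt F (mdims μ) v) = G (e v)) ∧
      ∀ j, s j = true ↔ Odd j ∧ j ∈ μ ∧ disc hpos (fmat B e) j

open Classical in
theorem exists_odata [Fintype F] [FiniteDimensional F V] (h2 : (2 : F) ≠ 0) {B : V →ₗ[F] V →ₗ[F] F}
    {G : V ≃ₗ[F] V} (h : IsSIsom B G) (hnil : IsNilpotent (G.toLinearMap - 1)) :
    ∃ μ s, IsOType μ s ∧ μ.sum = Module.finrank F V ∧ IsOData B G μ s := by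
  obtain ⟨μ, hμ, hr, -⟩ := LinFix.exists_blocks hnil ⊤ (LinFix.inv_top _)
  have hrank : ∀ j, Module.finrank F (LinearMap.range ((G.toLinearMap - 1) ^ j)) =
      ∑ k, (mdims μ k - j) := fun j => by
    rw [sum_mdims_sub, ← hr j, Submodule.map_top]
  have hN : IsNilpotent (jt F (mdims μ) - 1) := ⟨Finset.univ.sup (mdims μ), by
    rw [← LinearMap.range_eq_bot, ← Submodule.finrank_eq_zero, finrank_range_jt]
    exact Finset.sum_eq_zero fun k _ =>
      Nat.sub_eq_zero_of_le (Finset.le_sup (f := mdims μ) (Finset.mem_univ k))⟩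
  obtain ⟨e, he⟩ := CfsgLib.LinFix.exists_equiv_of_ranks hN hnil fun j => by
    rw [hrank, finrank_range_jt]
  have he' : ∀ v, e (jt F (mdims μ) v) = G (e v) := fun v => by
    have := he v
    simpa only [LinearMap.sub_apply, Module.End.one_apply, map_sub, sub_left_inj,
      LinearEquiv.coe_coe] using this
  have hpos : ∀ k, 0 < mdims μ k := fun k => hμ _ (mdims_mem k)
  refine ⟨μ, fun j => decide (Odd j ∧ j ∈ μ ∧ disc hpos (fmat B e) j), ⟨hμ, fun j hj => ?_,
    fun j hj => ?_⟩, ?_, hpos, e, he', fun j => by simp⟩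
  · obtain ⟨r, -, -, -, -, -, hc⟩ := exists_symp_coords h2
      (gram_skew hpos (fmat_isInv h he') hj)
      ((Matrix.isUnit_iff_isUnit_det _).2 (isUnit_iff_ne_zero.2
        (gram_det_ne_zero hpos (fmat_isInv h he') (fmat_isUnit h e) j)))
    rw [← count_mdims, ← Fintype.card_subtype]
    exact ⟨r, by omega⟩
  · exact ⟨(of_decide_eq_true hj).1, (of_decide_eq_true hj).2.1⟩
  · have := hr 0
    rw [pow_zero, Module.End.one_eq_id, Submodule.map_id, finrank_top, LinFix.blockRank_zero] at this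
    exact this.symm

/-- Isometries with the same signed Jordan type are isometric. -/
theorem odata_intertwine [Finite F] (p : ℕ) [Fact p.Prime] [CharP F p] (hp : p ≠ 2)
    {V' : Type*} [AddCommGroup V'] [Module F V']
    {B : V →ₗ[F] V →ₗ[F] F} {G : V ≃ₗ[F] V} {B' : V' →ₗ[F] V' →ₗ[F] F} {G' : V' ≃ₗ[F] V'}
    (h : IsSIsom B G) (h' : IsSIsom B' G') {μ : Multiset ℕ} {s : ℕ → Bool}
    (hd : IsOData B G μ s) (hd' : IsOData B' G' μ s) :
    ∃ T : V ≃ₗ[F] V', (∀ x, T (G x) = G' (T x)) ∧ ∀ x y, B' (T x) (T y) = B x y := by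
  classical
  haveI := Fintype.ofFinite F
  obtain ⟨hpos, e, he, hs⟩ := hd
  obtain ⟨_, e', he', hs'⟩ := hd'
  obtain ⟨X, hXu, hX, hXe⟩ := rel_of_disc hpos p hp (fmat_isInv h' he') (fmat_isUnit h' e')
    (fmat_isInv h he) (fmat_isUnit h e) fun j hj hmem => by
      rw [image_mdims, Multiset.mem_toFinset] at hmem
      have e1 := hs j
      have e2 := hs' j
      simp only [hj, hmem, true_and] at e1 e2
      exact e2.symm.trans e1
  let L : (Idx (mdims μ) → F) ≃ₗ[F] (Idx (mdims μ) → F) :=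
    LinearEquiv.ofInjectiveEndo (Matrix.mulVecLin X) (Matrix.mulVec_injective_iff_isUnit.2 hXu)
  refine ⟨e.symm.trans (L.trans e'), fun x => ?_, fun x y => ?_⟩
  · obtain ⟨v, rfl⟩ := e.surjective x
    simp only [LinearEquiv.trans_apply, e.symm_apply_apply, ← he]
    rw [← he']
    congr 1
    show X *ᵥ (Cfsg.jordanTypeMatrix (mdims μ) F *ᵥ v) = Cfsg.jordanTypeMatrix (mdims μ) F *ᵥ (X *ᵥ v)
    rw [mulVec_mulVec, mulVec_mulVec, hX]
  · obtain ⟨u, rfl⟩ := e.surjective x
    obtain ⟨v, rfl⟩ := e.surjective y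
    simp only [LinearEquiv.trans_apply, e.symm_apply_apply]
    have key : (B'.compl₁₂ e'.toLinearMap e'.toLinearMap).compl₁₂ (Matrix.mulVecLin X) (Matrix.mulVecLin X) =
        B.compl₁₂ e.toLinearMap e.toLinearMap := by
      apply (LinearMap.toMatrix₂' F).injective
      rw [LinearMap.toMatrix₂'_compl₁₂, show LinearMap.toMatrix' (Matrix.mulVecLin X) = X from
        LinearMap.toMatrix'_toLin' X]
      exact hXe
    exact LinearMap.congr_fun₂ key u v

/-- `g - g⁻¹`. -/
def skewOp (G : V ≃ₗ[F] V) : Module.End F V := G.toLinearMap - G.symm.toLinearMap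

theorem skewOp_comm (G : V ≃ₗ[F] V) (x : V) : skewOp G (G x) = G (skewOp G x) := by
  simp [skewOp]

theorem skewOp_bijective [FiniteDimensional F V] {G : V ≃ₗ[F] V} (h1 : ∀ v, G v = v → v = 0)
    (hn : ∀ v, G v = -v → v = 0) : Function.Bijective (skewOp G) := by
  have hi : Function.Injective (skewOp G) := (injective_iff_map_eq_zero _).2 fun x hx => by
    have e : G (G x) = x := by
      have := congrArg G hx
      simp only [skewOp, LinearMap.sub_apply, LinearEquiv.coe_coe, map_sub, G.apply_symm_apply,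
        map_zero, sub_eq_zero] at this
      exact this
    have : G x + x = 0 := h1 _ (by rw [map_add, e, add_comm])
    exact hn x (eq_neg_of_add_eq_zero_left this)
  exact ⟨hi, LinearMap.injective_iff_surjective.1 hi⟩

theorem IsSIsom.skewForm [FiniteDimensional F V] (h2 : (2 : F) ≠ 0) {B : V →ₗ[F] V →ₗ[F] F}
    {G : V ≃ₗ[F] V} (h : IsSIsom B G) (h1 : ∀ v, G v = v → v = 0) (hn : ∀ v, G v = -v → v = 0) :
    IsIsom (B.comp (skewOp G)) G := by
  refine ⟨fun v => ?_, fun v hv => (skewOp_bijective h1 hn).1 ?_, fun x y => ?_⟩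
  · have e : B (skewOp G v) v = B (G v) v - B (G.symm v) v := by simp [skewOp]
    have e' : B (G.symm v) v = B (G v) v := by
      rw [← h.inv, G.apply_symm_apply, h.symm]
    show B (skewOp G v) v = 0
    rw [e, e', sub_self]
  · rw [map_zero]
    exact h.nondeg _ hv
  · show B (skewOp G (G x)) (G y) = B (skewOp G x) y
    rw [skewOp_comm, h.inv]

/-- Isometries without eigenvalues `±1` with the same label are isometric. -/
theorem ldata_intertwine_sym [Finite F] (h2 : (2 : F) ≠ 0) [FiniteDimensional F V] {V' : Type*}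
    [AddCommGroup V'] [Module F V'] [FiniteDimensional F V']
    {B : V →ₗ[F] V →ₗ[F] F} {G : V ≃ₗ[F] V} {B' : V' →ₗ[F] V' →ₗ[F] F} {G' : V' ≃ₗ[F] V'}
    (h : IsSIsom B G) (h' : IsSIsom B' G') (h1 : ∀ v, G v = v → v = 0) (hn : ∀ v, G v = -v → v = 0)
    (h1' : ∀ v, G' v = v → v = 0) (hn' : ∀ v, G' v = -v → v = 0)
    (hdim : Module.finrank F V = Module.finrank F V') {v : ℕ → Polynomial F}
    (hd : IsLData G v) (hd' : IsLData G' v) :
    ∃ T : V ≃ₗ[F] V', (∀ x, T (G x) = G' (T x)) ∧ ∀ x y, B' (T x) (T y) = B x y := by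
  obtain ⟨T, hT, hTB⟩ := ldata_intertwine h2 (h.skewForm h2 h1 hn) (h'.skewForm h2 h1' hn') h1 hn hdim hd hd'
  refine ⟨T, hT, fun x y => ?_⟩
  obtain ⟨z, rfl⟩ := (skewOp_bijective h1 hn).2 x
  have hK : T (skewOp G z) = skewOp G' (T z) := by
    have hs : T (G.symm z) = G'.symm (T z) := G'.injective (by
      rw [← hT, G.apply_symm_apply, G'.apply_symm_apply])
    simp [skewOp, hT, hs]
  rw [hK]
  exact hTB z y

end CfsgLib.OClassNum
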