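import Cfsg.Agent.Lib.SpClassNum.Split
import Cfsg.Agent.Lib.OClassNum.Unip

/-!
The data of an isometry of a symmetric form, their completeness, and the effect of changing one sign
on the discriminant of the form.
-/

set_option autoImplicit false

namespace CfsgLib.OClassNum

open Polynomial CfsgLib.UnipotentGL
open CfsgLib.SpClassNum (ClassData bres res coe_res IsIsom IsLData exists_ldata mdims IsSR fmat aeval_inv ker_sup_range)

variable {F V : Type*} [Field F] [AddCommGroup V] [Module F V] [FiniteDimensional F V]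

/-- The data of an isometry. -/
def HasData (B : V →ₗ[F] V →ₗ[F] F) (G : V ≃ₗ[F] V) (x : ClassData F) : Prop :=
  ∃ (P M Z : Submodule F V) (hP : ∀ v ∈ P, G v ∈ P) (hM : ∀ v ∈ M, G v ∈ M) (hZ : ∀ v ∈ Z, G v ∈ Z),
    P ⊔ M ⊔ Z = ⊤ ∧ (∀ a ∈ P, ∀ b ∈ M, B a b = 0) ∧ (∀ a ∈ P, ∀ b ∈ Z, B a b = 0) ∧
    (∀ a ∈ M, ∀ b ∈ Z, B a b = 0) ∧
    (∀ v ∈ Z, G v = v → v = 0) ∧ (∀ v ∈ Z, G v = -v → v = 0) ∧
    IsOData (bres B P) (res G P hP) x.mu x.sg ∧
    IsOData (bres B M) ((res G M hM).trans (LinearEquiv.neg F)) x.mu' x.sg' ∧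
    IsLData (res G Z hZ) x.lbl ∧ x.mu.sum + x.mu'.sum + Module.finrank F Z = Module.finrank F V

theorem IsSIsom.isIsom_res {B : V →ₗ[F] V →ₗ[F] F} {G : V ≃ₗ[F] V} (h : IsSIsom B G)
    {P Q R : Submodule F V} (hP : ∀ v ∈ P, G v ∈ P) (htop : P ⊔ Q ⊔ R = ⊤)
    (hQ : ∀ a ∈ P, ∀ b ∈ Q, B a b = 0) (hR : ∀ a ∈ P, ∀ b ∈ R, B a b = 0) :
    IsSIsom (bres B P) (res G P hP) := by
  refine ⟨fun v w => h.symm _ _, fun v hv => Subtype.ext (h.nondeg _ fun w => ?_), fun a b => h.inv _ _⟩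
  obtain ⟨u, hu, c, hc, rfl⟩ := Submodule.mem_sup.1 (htop ▸ Submodule.mem_top : w ∈ P ⊔ Q ⊔ R)
  obtain ⟨a, ha, b, hb, rfl⟩ := Submodule.mem_sup.1 hu
  have := hv ⟨a, ha⟩
  simp only [bres, LinearMap.compl₁₂_apply, Submodule.coe_subtype] at this
  rw [map_add, map_add, this, hQ _ v.2 _ hb, hR _ v.2 _ hc, add_zero, add_zero]

theorem IsSIsom.neg {B : V →ₗ[F] V →ₗ[F] F} {G : V ≃ₗ[F] V} (h : IsSIsom B G) :
    IsSIsom B (G.trans (LinearEquiv.neg F)) :=
  ⟨h.symm, h.nondeg, fun x y => by simp [h.inv]⟩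

theorem range_pow_perp_ker {B : V →ₗ[F] V →ₗ[F] F} {G : V ≃ₗ[F] V} (h : IsSIsom B G) {ε : F}
    (hε : ε * ε = 1) (N : ℕ) {x y : V}
    (hx : x ∈ LinearMap.range ((G.toLinearMap - ε • 1) ^ N))
    (hy : y ∈ LinearMap.ker ((G.toLinearMap - ε • 1) ^ N)) : B x y = 0 := by
  obtain ⟨z, rfl⟩ := hx
  set T : Module.End F V := G.toLinearMap - ε • 1 with hT
  let S : Module.End F V := G.symm.toLinearMap
  let T' : Module.End F V := S - ε • 1
  have hadj : ∀ x y, B (T x) y = B x (T' y) := fun x y => by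
    have e := h.inv x (G.symm y)
    rw [G.apply_symm_apply] at e
    simp [T, T', S, map_sub, map_smul, e]
  have hpow : ∀ (k : ℕ) x y, B ((T ^ k) x) y = B x ((T' ^ k) y) := by
    intro k
    induction k with
    | zero => intro x y; simp
    | succ k ih =>
      intro x y
      rw [pow_succ, Module.End.mul_apply, ih, hadj, ← Module.End.mul_apply, ← pow_succ']
  have hT' : T' = (-ε) • (S * T) := LinearMap.ext fun x => by
    simp [T', S, T, smul_sub, smul_smul, hε, sub_eq_add_neg, add_comm]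
  have hST : Commute S T := LinearMap.ext fun x => by simp [S, T]
  rw [hpow, hT', _root_.smul_pow, hST.mul_pow, LinearMap.smul_apply, Module.End.mul_apply,
    LinearMap.mem_ker.1 hy, map_zero, smul_zero, map_zero]

/-- Every isometry has data. -/
theorem exists_data [Fintype F] (h2 : (2 : F) ≠ 0) {B : V →ₗ[F] V →ₗ[F] F} {G : V ≃ₗ[F] V} (h : IsSIsom B G)
    {n : ℕ} (hn : Module.finrank F V = 2 * n) : ∃ x, OValid n x ∧ HasData B G x := by
  classical
  set N := Module.finrank F V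
  set f : F[X] := (X - C 1) ^ N with hf
  set g : F[X] := (X - C (-1)) ^ N with hg
  set P := LinearMap.ker (aeval G.toLinearMap f) with hPdef
  set M := LinearMap.ker (aeval G.toLinearMap g) with hMdef
  set Z := LinearMap.range (aeval G.toLinearMap (f * g)) with hZdef
  have haf : aeval G.toLinearMap f = (G.toLinearMap - (1 : F) • 1) ^ N := by
    simp [hf]
  have hag : aeval G.toLinearMap g = (G.toLinearMap - (-1 : F) • 1) ^ N := by
    simp [hg, Algebra.algebraMap_eq_smul_one]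
  have hcop : IsCoprime f g := (isCoprime_X_sub_C_of_isUnit_sub (show IsUnit ((1 : F) - -1) by
    rw [sub_neg_eq_add, one_add_one_eq_two]; exact Ne.isUnit h2)).pow
  obtain ⟨a, b, hab⟩ := hcop
  have hbez : ∀ v, aeval G.toLinearMap f (aeval G.toLinearMap a v) +
      aeval G.toLinearMap g (aeval G.toLinearMap b v) = v := fun v => by
    have := congrArg (fun p => aeval G.toLinearMap p v) (show f * a + g * b = 1 by rw [← hab]; ring)
    simpa [map_mul, map_add] using this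
  have hcomm : ∀ (p q : F[X]) v, aeval G.toLinearMap p (aeval G.toLinearMap q v) =
      aeval G.toLinearMap q (aeval G.toLinearMap p v) := fun p q v => by
    rw [← Module.End.mul_apply, ← map_mul, mul_comm, map_mul, Module.End.mul_apply]
  have hMf : ∀ y ∈ M, y ∈ LinearMap.range (aeval G.toLinearMap f) := fun y hy => by
    have := hbez y
    rw [hcomm g b, LinearMap.mem_ker.1 hy, map_zero, add_zero] at this
    exact ⟨_, this⟩
  have hZf : Z ≤ LinearMap.range (aeval G.toLinearMap f) := by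
    rintro _ ⟨v, rfl⟩
    exact ⟨aeval G.toLinearMap g v, by rw [← Module.End.mul_apply, ← map_mul]⟩
  have hZg : Z ≤ LinearMap.range (aeval G.toLinearMap g) := by
    rintro _ ⟨v, rfl⟩
    exact ⟨aeval G.toLinearMap f v, by rw [← Module.End.mul_apply, ← map_mul, mul_comm g]⟩
  have hperp : ∀ (p : F[X]) (ε : F), ε * ε = 1 →
      aeval G.toLinearMap p = (G.toLinearMap - ε • 1) ^ N →
      ∀ a ∈ LinearMap.ker (aeval G.toLinearMap p), ∀ b ∈ LinearMap.range (aeval G.toLinearMap p),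
        B a b = 0 := fun p ε hε hp a ha b hb => by
    rw [hp] at ha hb
    rw [h.symm, range_pow_perp_ker h hε N hb ha]
  have oPM : ∀ a ∈ P, ∀ b ∈ M, B a b = 0 := fun a ha b hb =>
    hperp f 1 (one_mul 1) haf a ha b (hMf b hb)
  have oPZ : ∀ a ∈ P, ∀ b ∈ Z, B a b = 0 := fun a ha b hb =>
    hperp f 1 (one_mul 1) haf a ha b (hZf hb)
  have oMZ : ∀ a ∈ M, ∀ b ∈ Z, B a b = 0 := fun a ha b hb =>
    hperp g (-1) (by ring) hag a ha b (hZg hb)
  have hP : ∀ v ∈ P, G v ∈ P := (aeval_inv G f).1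
  have hM : ∀ v ∈ M, G v ∈ M := (aeval_inv G g).1
  have hZ : ∀ v ∈ Z, G v ∈ Z := (aeval_inv G (f * g)).2
  have s1 : P ⊔ LinearMap.range (aeval G.toLinearMap f) = ⊤ := by
    rw [hPdef, haf]; exact ker_sup_range le_rfl
  have s2 : M ⊔ LinearMap.range (aeval G.toLinearMap g) = ⊤ := by
    rw [hMdef, hag]; exact ker_sup_range le_rfl
  have htop : P ⊔ M ⊔ Z = ⊤ := by
    rw [eq_top_iff]
    intro v _
    obtain ⟨p, hp, r, ⟨w, rfl⟩, rfl⟩ := Submodule.mem_sup.1
      (s1 ▸ Submodule.mem_top :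
        v ∈ P ⊔ LinearMap.range (aeval G.toLinearMap f))
    obtain ⟨m', hm', r', ⟨w', rfl⟩, rfl⟩ := Submodule.mem_sup.1
      (s2 ▸ Submodule.mem_top :
        w ∈ M ⊔ LinearMap.range (aeval G.toLinearMap g))
    rw [map_add, ← add_assoc]
    refine Submodule.add_mem_sup (Submodule.add_mem_sup hp ?_) ⟨w', by rw [map_mul, Module.End.mul_apply]⟩
    rw [hMdef, LinearMap.mem_ker, hcomm, LinearMap.mem_ker.1 hm', map_zero]
  have oMP : ∀ a ∈ M, ∀ b ∈ P, B a b = 0 := fun a ha b hb => by rw [h.symm, oPM b hb a ha]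
  have oZP : ∀ a ∈ Z, ∀ b ∈ P, B a b = 0 := fun a ha b hb => by rw [h.symm, oPZ b hb a ha]
  have oZM : ∀ a ∈ Z, ∀ b ∈ M, B a b = 0 := fun a ha b hb => by rw [h.symm, oMZ b hb a ha]
  have iP := h.isIsom_res hP htop oPM oPZ
  have iM := (h.isIsom_res (Q := P) (R := Z) hM (by rwa [sup_comm M P]) oMP oMZ).neg
  have iZ := h.isIsom_res (Q := P) (R := M) hZ (by rwa [sup_comm Z P, sup_assoc, sup_comm Z M, ← sup_assoc]) oZP oZM
  have z0 : ∀ (ε : F) (p : F[X]), N ≠ 0 → ε * ε = 1 →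
      aeval G.toLinearMap p = (G.toLinearMap - ε • 1) ^ N → ∀ v ∈ Z, G v = ε • v →
      v ∈ LinearMap.ker (aeval G.toLinearMap p) := fun ε p hN _ hp v _ hv => by
    rw [LinearMap.mem_ker, hp, show N = N - 1 + 1 by omega, pow_succ, Module.End.mul_apply]
    simp [hv]
  have zero_of : ∀ v ∈ Z, v ∈ P ∨ v ∈ M → v = 0 := fun v hv hor => by
    have h' := iZ.nondeg ⟨v, hv⟩ fun w => by
      show B v w = 0
      rcases hor with hp | hm
      · exact oPZ v hp w w.2
      · exact oMZ v hm w w.2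
    exact congrArg Subtype.val h'
  have z1 : ∀ v ∈ Z, G v = v → v = 0 := fun v hv hfix => by
    by_cases hN : N = 0
    · haveI := (Module.finrank_zero_iff (R := F) (M := V)).1 hN; exact Subsingleton.elim _ _
    · exact zero_of v hv (Or.inl (z0 1 f hN (one_mul 1) haf v hv (by rw [one_smul, hfix])))
  have zn : ∀ v ∈ Z, G v = -v → v = 0 := fun v hv hfix => by
    by_cases hN : N = 0
    · haveI := (Module.finrank_zero_iff (R := F) (M := V)).1 hN; exact Subsingleton.elim _ _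
    · exact zero_of v hv (Or.inr (z0 (-1) g hN (by ring) hag v hv (by rw [neg_one_smul, hfix])))
  have nP : IsNilpotent ((res G P hP).toLinearMap - 1) := ⟨N, LinearMap.ext fun v => Subtype.ext (by
    have e : ∀ (k : ℕ) (v : P), ((((res G P hP).toLinearMap - 1) ^ k) v : V) =
        ((G.toLinearMap - (1 : F) • 1) ^ k) v := by
      intro k
      induction k with
      | zero => intro v; rfl
      | succ k ih =>
        intro v
        simp only [pow_succ', Module.End.mul_apply, LinearMap.sub_apply, Module.End.one_apply,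
          LinearEquiv.coe_coe, Submodule.coe_sub, coe_res, ih, one_smul]
    rw [e, ← haf]
    exact v.2)⟩
  have nM : IsNilpotent (((res G M hM).trans (LinearEquiv.neg F)).toLinearMap - 1) :=
      ⟨N, LinearMap.ext fun v => Subtype.ext (by
    have e : ∀ (k : ℕ) (v : M),
        (((((res G M hM).trans (LinearEquiv.neg F)).toLinearMap - 1) ^ k) v : V) =
        (-1 : F) ^ k • ((G.toLinearMap - (-1 : F) • 1) ^ k) v := by
      intro k
      induction k with
      | zero => intro v; simp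
      | succ k ih =>
        intro v
        simp only [pow_succ', Module.End.mul_apply, LinearMap.sub_apply, Module.End.one_apply,
          LinearEquiv.coe_coe, LinearEquiv.trans_apply, LinearEquiv.neg_apply, Submodule.coe_sub,
          Submodule.coe_neg, coe_res, ih, LinearMap.smul_apply, map_smul, mul_smul]
        module
    rw [e, ← hag, LinearMap.mem_ker.1 v.2, smul_zero]
    rfl)⟩
  obtain ⟨μ, s, ut, hμ, dP⟩ := exists_odata h2 iP nP
  obtain ⟨μ', s', ut', hμ', dM⟩ := exists_odata h2 iM nM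
  obtain ⟨v, sr, v0, vbig, vw, dZ⟩ := exists_ldata h2 (iZ.skewForm h2 (fun w hw => Subtype.ext (z1 w w.2 (congrArg Subtype.val hw)))
    (fun w hw => Subtype.ext (zn w w.2 (congrArg Subtype.val hw))))
    (fun w hw => Subtype.ext (z1 w w.2 (congrArg Subtype.val hw)))
    (fun w hw => Subtype.ext (zn w w.2 (congrArg Subtype.val hw)))
  -- dimensions
  let Φ : (P × M) × Z →ₗ[F] V := (P.subtype.coprod M.subtype).coprod Z.subtype
  have hΦ : Function.Bijective Φ := by
    refine ⟨(injective_iff_map_eq_zero _).2 ?_, fun w => ?_⟩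
    · rintro ⟨⟨a, b⟩, c⟩ hw
      replace hw : (a : V) + b + c = 0 := hw
      have ha : a = 0 := iP.nondeg a fun u => by
        show B a u = 0
        have := congrArg (fun t => B t u) hw
        simp only [map_add, map_zero, LinearMap.add_apply, LinearMap.zero_apply, oMP _ b.2 _ u.2,
          oZP _ c.2 _ u.2, add_zero] at this
        exact this
      subst ha
      have hb : b = 0 := (h.isIsom_res (Q := P) (R := Z) hM (by rwa [sup_comm M P]) oMP oMZ).nondeg b
          fun u => by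
        show B b u = 0
        have := congrArg (fun t => B t u) hw
        simp only [Submodule.coe_zero, map_add, map_zero, LinearMap.add_apply, LinearMap.zero_apply,
          zero_add, oZM _ c.2 _ u.2, add_zero] at this
        exact this
      subst hb
      have hc : c = 0 := Subtype.ext (by simpa using hw)
      subst hc
      rfl
    · obtain ⟨u, hu, c, hc, rfl⟩ := Submodule.mem_sup.1 (htop ▸ Submodule.mem_top : w ∈ P ⊔ M ⊔ Z)
      obtain ⟨a, ha, b, hb, rfl⟩ := Submodule.mem_sup.1 hu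
      exact ⟨((⟨a, ha⟩, ⟨b, hb⟩), ⟨c, hc⟩), rfl⟩
  have hdim : μ.sum + μ'.sum + Module.finrank F Z = N := by
    have := (LinearEquiv.ofBijective Φ hΦ).finrank_eq
    rw [Module.finrank_prod, Module.finrank_prod] at this
    omega
  refine ⟨⟨μ, s, μ', s', v⟩, ⟨ut, ut', sr, v0, fun i hi => vbig i (by omega), ?_⟩,
    P, M, Z, hP, hM, hZ, htop, oPM, oPZ, oMZ, z1, zn, dP, dM, dZ, hdim⟩
  show μ.sum + μ'.sum + ∑ i ∈ Finset.range (2 * n + 1), i * (v i).natDegree = 2 * n
  rw [← Finset.sum_subset (Finset.range_subset_range.2 (show Module.finrank F Z + 1 ≤ 2 * n + 1 by omega))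
    fun i _ hi => by
      rw [vbig i (by have := Finset.mem_range.not.1 hi; omega)]; simp, vw]
  omega

/-- Isometries with the same data are conjugate by an isometry. -/
theorem data_intertwine [Finite F] (p : ℕ) [Fact p.Prime] [CharP F p] (hp : p ≠ 2)
    {B : V →ₗ[F] V →ₗ[F] F} {G G' : V ≃ₗ[F] V} (h : IsSIsom B G) (h' : IsSIsom B G')
    {x : ClassData F} (hx : HasData B G x) (hx' : HasData B G' x) :
    ∃ T : V ≃ₗ[F] V, (∀ v, T (G v) = G' (T v)) ∧ ∀ v w, B (T v) (T w) = B v w := by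
  have h2 : (2 : F) ≠ 0 := CfsgLib.SpUnip.two_ne_zero_char p hp
  obtain ⟨P, M, Z, hP, hM, hZ, top, oPM, oPZ, oMZ, z1, zn, dP, dM, dZ, hdim⟩ := hx
  obtain ⟨P', M', Z', hP', hM', hZ', top', oPM', oPZ', oMZ', z1', zn', dP', dM', dZ', hdim'⟩ := hx'
  have flip : ∀ {A C : Submodule F V}, (∀ a ∈ A, ∀ b ∈ C, B a b = 0) → ∀ a ∈ C, ∀ b ∈ A, B a b = 0 :=
    fun ho a ha b hb => by rw [h.symm, ho b hb a ha]
  have sMid : ∀ {A C E : Submodule F V}, A ⊔ C ⊔ E = ⊤ → C ⊔ A ⊔ E = ⊤ := fun {A C E} ht => by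
    rwa [sup_comm C A]
  have sLast : ∀ {A C E : Submodule F V}, A ⊔ C ⊔ E = ⊤ → E ⊔ A ⊔ C = ⊤ := fun {A C E} ht => by
    rwa [sup_assoc, sup_comm]
  obtain ⟨TP, hTP, bTP⟩ := odata_intertwine p hp (h.isIsom_res hP top oPM oPZ)
    (h'.isIsom_res hP' top' oPM' oPZ') dP dP'
  obtain ⟨TM, hTM, bTM⟩ := odata_intertwine p hp
    (h.isIsom_res hM (sMid top) (flip oPM) oMZ).neg
    (h'.isIsom_res hM' (sMid top') (flip oPM') oMZ').neg dM dM'
  obtain ⟨TZ, hTZ, bTZ⟩ := ldata_intertwine_sym h2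
    (h.isIsom_res hZ (sLast top) (flip oPZ) (flip oMZ))
    (h'.isIsom_res hZ' (sLast top') (flip oPZ') (flip oMZ'))
    (fun w hw => Subtype.ext (z1 w w.2 (congrArg Subtype.val hw)))
    (fun w hw => Subtype.ext (zn w w.2 (congrArg Subtype.val hw)))
    (fun w hw => Subtype.ext (z1' w w.2 (congrArg Subtype.val hw)))
    (fun w hw => Subtype.ext (zn' w w.2 (congrArg Subtype.val hw))) (by omega) dZ dZ'
  let Φ : (P × M) × Z →ₗ[F] V := (P.subtype.coprod M.subtype).coprod Z.subtype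
  let Ψ : (P × M) × Z →ₗ[F] V := (P'.subtype.coprod M'.subtype).coprod Z'.subtype ∘ₗ
    ((TP.prodCongr TM).prodCongr TZ).toLinearMap
  have hB : ∀ u w, B (Ψ u) (Ψ w) = B (Φ u) (Φ w) := by
    rintro ⟨⟨a, b⟩, c⟩ ⟨⟨a', b'⟩, c'⟩
    show B ((TP a : V) + TM b + TZ c) ((TP a' : V) + TM b' + TZ c') =
      B ((a : V) + b + c) ((a' : V) + b' + c')
    have e1 : B (TP a : V) (TP a') = B (a : V) a' := bTP a a'
    have e2 : B (TM b : V) (TM b') = B (b : V) b' := bTM b b'
    have e3 : B (TZ c : V) (TZ c') = B (c : V) c' := bTZ c c'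
    simp only [map_add, LinearMap.add_apply, e1, e2, e3, oPM _ a.2 _ b'.2, oPZ _ a.2 _ c'.2,
      oMZ _ b.2 _ c'.2, flip oPM _ b.2 _ a'.2, flip oPZ _ c.2 _ a'.2, flip oMZ _ c.2 _ b'.2,
      oPM' _ (TP a).2 _ (TM b').2, oPZ' _ (TP a).2 _ (TZ c').2, oMZ' _ (TM b).2 _ (TZ c').2,
      flip oPM' _ (TM b).2 _ (TP a').2, flip oPZ' _ (TZ c).2 _ (TP a').2,
      flip oMZ' _ (TZ c).2 _ (TM b').2]
  have hsurj : Function.Surjective Φ := fun w => by
    obtain ⟨u, hu, c, hc, rfl⟩ := Submodule.mem_sup.1 (top ▸ Submodule.mem_top : w ∈ P ⊔ M ⊔ Z)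
    obtain ⟨a, ha, b, hb, rfl⟩ := Submodule.mem_sup.1 hu
    exact ⟨((⟨a, ha⟩, ⟨b, hb⟩), ⟨c, hc⟩), rfl⟩
  obtain ⟨S, hS⟩ := LinearMap.exists_rightInverse_of_surjective Φ (LinearMap.range_eq_top.2 hsurj)
  have hS' : ∀ w, Φ (S w) = w := fun w => LinearMap.congr_fun hS w
  let T : Module.End F V := Ψ ∘ₗ S
  have hT : ∀ u, T (Φ u) = Ψ u := fun u => by
    apply sub_eq_zero.1
    refine h.nondeg _ fun w => ?_
    -- `Ψ` maps onto the whole space
    obtain ⟨u', rfl⟩ : ∃ u', Ψ u' = w := by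
      have hs : Function.Surjective ((P'.subtype.coprod M'.subtype).coprod Z'.subtype) := fun w => by
        obtain ⟨u, hu, c, hc, rfl⟩ :=
          Submodule.mem_sup.1 (top' ▸ Submodule.mem_top : w ∈ P' ⊔ M' ⊔ Z')
        obtain ⟨a, ha, b, hb, rfl⟩ := Submodule.mem_sup.1 hu
        exact ⟨((⟨a, ha⟩, ⟨b, hb⟩), ⟨c, hc⟩), rfl⟩
      exact (hs.comp ((TP.prodCongr TM).prodCongr TZ).surjective) w
    rw [map_sub, LinearMap.sub_apply]
    show B (Ψ (S (Φ u))) (Ψ u') - _ = 0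
    rw [hB, hB, hS', sub_self]
  have hTB : ∀ v w, B (T v) (T w) = B v w := fun v w => by
    show B (Ψ (S v)) (Ψ (S w)) = _
    rw [hB, hS', hS']
  have hinj : Function.Injective T := fun v w e => sub_eq_zero.1 (h.nondeg _ fun u => by
    rw [← hTB, map_sub, e, sub_self, map_zero, LinearMap.zero_apply])
  refine ⟨LinearEquiv.ofInjectiveEndo T hinj, fun v => ?_, hTB⟩
  show T (G v) = G' (T v)
  obtain ⟨⟨⟨a, b⟩, c⟩, rfl⟩ := hsurj v
  have eG : G (Φ ((a, b), c)) = Φ ((res G P hP a, res G M hM b), res G Z hZ c) := by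
    show G ((a : V) + b + c) = G a + G b + G c
    rw [map_add, map_add]
  rw [eG, hT, hT]
  show (TP (res G P hP a) : V) + TM (res G M hM b) + TZ (res G Z hZ c) =
    G' ((TP a : V) + TM b + TZ c)
  have eM : TM (res G M hM b) = res G' M' hM' (TM b) := by
    have := hTM b
    simp only [LinearEquiv.trans_apply, LinearEquiv.neg_apply, map_neg, neg_inj] at this
    exact this
  rw [hTP, eM, hTZ, coe_res, coe_res, coe_res, map_add, map_add]

/-- Changing one sign changes the discriminant: two orthogonal decompositions cannot agree in two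
parts and differ at one sign of the third. -/
theorem sign_rigid [Finite F] (p : ℕ) [Fact p.Prime] [CharP F p] (hp : p ≠ 2)
    {B : V →ₗ[F] V →ₗ[F] F} {G G' : V ≃ₗ[F] V} (h : IsSIsom B G) (h' : IsSIsom B G')
    {A C E A' C' E' : Submodule F V} (hA : ∀ v ∈ A, G v ∈ A) (hA' : ∀ v ∈ A', G' v ∈ A')
    (hC : ∀ v ∈ C, G v ∈ C) (hE : ∀ v ∈ E, G v ∈ E)
    (top : A ⊔ C ⊔ E = ⊤) (top' : A' ⊔ C' ⊔ E' = ⊤)
    (oAC : ∀ a ∈ A, ∀ b ∈ C, B a b = 0) (oAE : ∀ a ∈ A, ∀ b ∈ E, B a b = 0)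
    (oCE : ∀ a ∈ C, ∀ b ∈ E, B a b = 0)
    (oAC' : ∀ a ∈ A', ∀ b ∈ C', B a b = 0) (oAE' : ∀ a ∈ A', ∀ b ∈ E', B a b = 0)
    (oCE' : ∀ a ∈ C', ∀ b ∈ E', B a b = 0)
    (TC : C ≃ₗ[F] C') (bTC : ∀ a b : C, B (TC a : V) (TC b) = B (a : V) b)
    (TE : E ≃ₗ[F] E') (bTE : ∀ a b : E, B (TE a : V) (TE b) = B (a : V) b)
    {μ : Multiset ℕ} {s : ℕ → Bool} (hd : IsOData (bres B A) (res G A hA) μ s) {j₀ : ℕ}
    (hj₀ : Odd j₀) (hm : j₀ ∈ μ) :
    ¬ IsOData (bres B A') (res G' A' hA') μ (toggle s j₀) := by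
  classical
  haveI := Fintype.ofFinite F
  intro hd'
  obtain ⟨hpos, e, he, hs⟩ := hd
  obtain ⟨_, e', he', hs'⟩ := hd'
  have flip : ∀ {X Y : Submodule F V}, (∀ a ∈ X, ∀ b ∈ Y, B a b = 0) → ∀ a ∈ Y, ∀ b ∈ X, B a b = 0 :=
    fun ho a ha b hb => by rw [h.symm, ho b hb a ha]
  have iA := h.isIsom_res hA top oAC oAE
  have iA' := h'.isIsom_res hA' top' oAC' oAE'
  have iC := h.isIsom_res (Q := A) (R := E) hC (by rwa [sup_comm C A]) (flip oAC) oCE
  have iE := h.isIsom_res (Q := A) (R := C) hE (by rwa [sup_assoc, sup_comm]) (flip oAE) (flip oCE)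
  -- discriminants of the two first parts
  have hne : ¬ IsSquare ((fmat (bres B A) e).det * (fmat (bres B A') e').det) := by
    refine not_isSquare_det hpos p hp (fmat_isInv iA he) (fmat_isUnit iA e) (fmat_isInv iA' he')
      (fmat_isUnit iA' e') hj₀ (by rw [CfsgLib.SpClassNum.image_mdims, Multiset.mem_toFinset]; exact hm)
      (fun j hj hjm hne => ?_) fun hiff => ?_
    · rw [CfsgLib.SpClassNum.image_mdims, Multiset.mem_toFinset] at hjm
      have e1 := hs j
      have e2 := hs' j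
      simp only [hj, hjm, true_and, toggle, Function.update_of_ne hne] at e1 e2
      exact e1.symm.trans e2
    · have e1 := hs j₀
      have e2 := hs' j₀
      simp only [hj₀, hm, true_and, toggle, Function.update_self] at e1 e2
      rw [← e1, ← e2] at hiff
      cases hb : s j₀ <;> simp [hb] at hiff
  let r := Module.finrank F (C × E)
  let b : (Fin r → F) ≃ₗ[F] C × E := (Module.finBasis F (C × E)).equivFun.symm
  let pl : (Idx (mdims μ) ⊕ Fin r → F) →ₗ[F] (Idx (mdims μ) → F) := LinearMap.funLeft F F Sum.inl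
  let pr : (Idx (mdims μ) ⊕ Fin r → F) →ₗ[F] (Fin r → F) := LinearMap.funLeft F F Sum.inr
  let ψ : (Idx (mdims μ) ⊕ Fin r → F) →ₗ[F] V :=
    A.subtype ∘ₗ e.toLinearMap ∘ₗ pl + (C.subtype.coprod E.subtype) ∘ₗ b.toLinearMap ∘ₗ pr
  let ψ' : (Idx (mdims μ) ⊕ Fin r → F) →ₗ[F] V :=
    A'.subtype ∘ₗ e'.toLinearMap ∘ₗ pl +
      (C'.subtype.coprod E'.subtype) ∘ₗ (TC.prodCongr TE).toLinearMap ∘ₗ b.toLinearMap ∘ₗ pr
  let R : Matrix (Fin r) (Fin r) F := LinearMap.toMatrix₂' F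
    ((B.compl₁₂ (C.subtype.coprod E.subtype) (C.subtype.coprod E.subtype)).compl₁₂ b.toLinearMap b.toLinearMap)
  have spl : ∀ i, pl (Pi.single (Sum.inl i) 1) = Pi.single i 1 ∧ pr (Pi.single (Sum.inl i) 1) = 0 := fun i =>
    ⟨funext fun k => by simp [pl, LinearMap.funLeft, Pi.single_apply],
      funext fun k => by simp [pr, LinearMap.funLeft, Pi.single_apply]⟩
  have spr : ∀ i, pl (Pi.single (Sum.inr i) 1) = 0 ∧ pr (Pi.single (Sum.inr i) 1) = Pi.single i 1 := fun i =>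
    ⟨funext fun k => by simp [pl, LinearMap.funLeft, Pi.single_apply],
      funext fun k => by simp [pr, LinearMap.funLeft, Pi.single_apply]⟩
  have hM : LinearMap.toMatrix₂' F (B.compl₁₂ ψ ψ) = Matrix.fromBlocks (fmat (bres B A) e) 0 0 R := by
    ext i j
    rcases i with i | i <;> rcases j with j | j <;>
      simp [ψ, R, fmat, bres, LinearMap.toMatrix₂'_apply, spl, spr, oAC _ (Subtype.prop _) _ (Subtype.prop _),
        oAE _ (Subtype.prop _) _ (Subtype.prop _), flip oAC _ (Subtype.prop _) _ (Subtype.prop _),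
        flip oAE _ (Subtype.prop _) _ (Subtype.prop _)]
  have hM' : LinearMap.toMatrix₂' F (B.compl₁₂ ψ' ψ') = Matrix.fromBlocks (fmat (bres B A') e') 0 0 R := by
    ext i j
    rcases i with i | i <;> rcases j with j | j <;>
      simp [ψ', R, fmat, bres, LinearMap.toMatrix₂'_apply, spl, spr, oAC' _ (Subtype.prop _) _ (Subtype.prop _),
        oAE' _ (Subtype.prop _) _ (Subtype.prop _), flip oAC' _ (Subtype.prop _) _ (Subtype.prop _),
        flip oAE' _ (Subtype.prop _) _ (Subtype.prop _), oCE _ (Subtype.prop _) _ (Subtype.prop _),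
        flip oCE _ (Subtype.prop _) _ (Subtype.prop _), oCE' _ (Subtype.prop _) _ (Subtype.prop _),
        flip oCE' _ (Subtype.prop _) _ (Subtype.prop _), bTC, bTE]
  have hsurj : Function.Surjective ψ := fun w => by
    obtain ⟨u, hu, c, hc, rfl⟩ := Submodule.mem_sup.1 (top ▸ Submodule.mem_top : w ∈ A ⊔ C ⊔ E)
    obtain ⟨a, ha, c', hc', rfl⟩ := Submodule.mem_sup.1 hu
    refine ⟨Sum.elim (e.symm ⟨a, ha⟩) (b.symm (⟨c', hc'⟩, ⟨c, hc⟩)), ?_⟩
    simp [ψ, pl, pr, LinearMap.funLeft, Function.comp_def, add_assoc]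
  obtain ⟨S, hS⟩ := LinearMap.exists_rightInverse_of_surjective ψ (LinearMap.range_eq_top.2 hsurj)
  let L : (Idx (mdims μ) ⊕ Fin r → F) →ₗ[F] (Idx (mdims μ) ⊕ Fin r → F) := S ∘ₗ ψ'
  have hL : ∀ v, ψ (L v) = ψ' v := fun v => LinearMap.congr_fun hS (ψ' v)
  have hdet : (fmat (bres B A') e').det * R.det =
      (LinearMap.toMatrix' L).det ^ 2 * ((fmat (bres B A) e).det * R.det) := by
    rw [← Matrix.det_fromBlocks_zero₂₁ _ 0 R, ← Matrix.det_fromBlocks_zero₂₁ _ 0 R, ← hM, ← hM',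
      show B.compl₁₂ ψ' ψ' = (B.compl₁₂ ψ ψ).compl₁₂ L L from LinearMap.ext₂ fun u v => by simp [hL],
      LinearMap.toMatrix₂'_compl₁₂, Matrix.det_mul, Matrix.det_mul, Matrix.det_transpose]
    ring
  have hR : R.det ≠ 0 := fun h0 => by
    obtain ⟨v, hv0, hv⟩ := Matrix.exists_mulVec_eq_zero_iff.2 h0
    have hz : ∀ u, B ((C.subtype.coprod E.subtype) u) ((C.subtype.coprod E.subtype) (b v)) = 0 := fun u => by
      obtain ⟨u, rfl⟩ := b.surjective u
      have : B ((C.subtype.coprod E.subtype) (b u)) ((C.subtype.coprod E.subtype) (b v)) =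
          dotProduct u (R.mulVec v) := by
        rw [← Matrix.toLinearMap₂'_apply', Matrix.toLinearMap₂'_toMatrix']
        rfl
      rw [this, hv, dotProduct_zero]
    refine hv0 (b.map_eq_zero_iff.1 (Prod.ext (iC.nondeg _ fun u => ?_) (iE.nondeg _ fun u => ?_)))
    · have := hz (u, 0)
      simp only [LinearMap.coprod_apply, map_zero, add_zero, map_add, Submodule.coe_subtype,
        oCE _ u.2 _ (b v).2.2] at this
      rw [iC.symm]
      exact this
    · have := hz (0, u)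
      simp only [LinearMap.coprod_apply, map_zero, zero_add, map_add, Submodule.coe_subtype,
        flip oCE _ u.2 _ (b v).1.2] at this
      rw [iE.symm]
      exact this
  refine hne ⟨(LinearMap.toMatrix' L).det * (fmat (bres B A) e).det, ?_⟩
  have hf := mul_right_cancel₀ hR (hdet.trans (mul_assoc _ _ _).symm)
  rw [hf]
  ring

/-- Data and the data with one sign changed cannot both occur. -/
theorem flip_not_data [Finite F] (p : ℕ) [Fact p.Prime] [CharP F p] (hp : p ≠ 2)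
    {B : V →ₗ[F] V →ₗ[F] F} {G G' : V ≃ₗ[F] V} (h : IsSIsom B G) (h' : IsSIsom B G')
    {x : ClassData F} (ho : HasOdd x) (hx : HasData B G x) : ¬ HasData B G' (flipData x) := by
  classical
  intro hx'
  have h2 : (2 : F) ≠ 0 := CfsgLib.SpUnip.two_ne_zero_char p hp
  obtain ⟨P, M, Z, hP, hM, hZ, top, oPM, oPZ, oMZ, z1, zn, dP, dM, dZ, hdim⟩ := hx
  obtain ⟨P', M', Z', hP', hM', hZ', top', oPM', oPZ', oMZ', z1', zn', dP', dM', dZ', hdim'⟩ := hx'
  have flip : ∀ {A C : Submodule F V}, (∀ a ∈ A, ∀ b ∈ C, B a b = 0) → ∀ a ∈ C, ∀ b ∈ A, B a b = 0 :=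
    fun ho a ha b hb => by rw [h.symm, ho b hb a ha]
  have sMid : ∀ {A C E : Submodule F V}, A ⊔ C ⊔ E = ⊤ → C ⊔ A ⊔ E = ⊤ := fun {A C E} ht => by
    rwa [sup_comm C A]
  have sLast : ∀ {A C E : Submodule F V}, A ⊔ C ⊔ E = ⊤ → E ⊔ A ⊔ C = ⊤ := fun {A C E} ht => by
    rwa [sup_assoc, sup_comm]
  have hkeep : (flipData x).mu = x.mu ∧ (flipData x).mu' = x.mu' ∧ (flipData x).lbl = x.lbl := by
    unfold flipData; split_ifs <;> exact ⟨rfl, rfl, rfl⟩
  obtain ⟨k1, k2, k3⟩ := hkeep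
  rw [k3] at dZ'
  rw [k1, k2] at hdim'
  obtain ⟨TZ, -, bTZ⟩ := ldata_intertwine_sym h2
    (h.isIsom_res hZ (sLast top) (flip oPZ) (flip oMZ))
    (h'.isIsom_res hZ' (sLast top') (flip oPZ') (flip oMZ'))
    (fun w hw => Subtype.ext (z1 w w.2 (congrArg Subtype.val hw)))
    (fun w hw => Subtype.ext (zn w w.2 (congrArg Subtype.val hw)))
    (fun w hw => Subtype.ext (z1' w w.2 (congrArg Subtype.val hw)))
    (fun w hw => Subtype.ext (zn' w w.2 (congrArg Subtype.val hw))) (by omega) dZ dZ'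
  by_cases hcase : ∃ j, Odd j ∧ j ∈ x.mu
  · simp only [flipData, dif_pos hcase] at dP' dM'
    obtain ⟨TM, -, bTM⟩ := odata_intertwine p hp (h.isIsom_res hM (sMid top) (flip oPM) oMZ).neg
      (h'.isIsom_res hM' (sMid top') (flip oPM') oMZ').neg dM dM'
    exact sign_rigid p hp h h' hP hP' hM hZ top top' oPM oPZ oMZ oPM' oPZ' oMZ' TM bTM TZ bTZ dP
      (Nat.find_spec hcase).1 (Nat.find_spec hcase).2 dP'
  · have hcase' : ∃ j, Odd j ∧ j ∈ x.mu' := ho.resolve_left hcase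
    simp only [flipData, dif_neg hcase, dif_pos hcase'] at dP' dM'
    obtain ⟨TP, -, bTP⟩ := odata_intertwine p hp (h.isIsom_res hP top oPM oPZ)
      (h'.isIsom_res hP' top' oPM' oPZ') dP dP'
    have eres : ∀ (g : V ≃ₗ[F] V) (W : Submodule F V) (hW : ∀ v ∈ W, g v ∈ W)
        (hW' : ∀ v ∈ W, g.trans (LinearEquiv.neg F) v ∈ W),
        res (g.trans (LinearEquiv.neg F)) W hW' = (res g W hW).trans (LinearEquiv.neg F) :=
      fun g W hW hW' => LinearEquiv.ext fun v => Subtype.ext rfl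
    have nM : ∀ v ∈ M, G.trans (LinearEquiv.neg F) v ∈ M := fun v hv => M.neg_mem (hM v hv)
    have nM' : ∀ v ∈ M', G'.trans (LinearEquiv.neg F) v ∈ M' := fun v hv => M'.neg_mem (hM' v hv)
    exact sign_rigid p hp h.neg h'.neg nM nM' (fun v hv => P.neg_mem (hP v hv))
      (fun v hv => Z.neg_mem (hZ v hv)) (sMid top) (sMid top') (flip oPM) oMZ oPZ (flip oPM') oMZ' oPZ'
      TP bTP TZ bTZ (eres G M hM nM ▸ dM) (Nat.find_spec hcase').1 (Nat.find_spec hcase').2
      (eres G' M' hM' nM' ▸ dM')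

end CfsgLib.OClassNum
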