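import Cfsg.Prelude.Def_Classical
import Cfsg.Agent.Lib.OClassNum.Split
import Cfsg.Agent.Lib.OClassNum.Keys
import Cfsg.Agent.Lib.OClassNum.Lower

/-!
The number of classes of the orthogonal group of a non-degenerate symmetric matrix of size `2n`.
-/

set_option autoImplicit false

namespace CfsgLib.OClassNum

open Polynomial Matrix

variable {F : Type*} [Field F] {ι : Type} [Fintype ι] [DecidableEq ι]

theorem mem_isometryGroup_iff (h2 : (2 : F) ≠ 0) {D : Matrix ι ι F} (hD : Dᵀ = D) {Q : (ι → F) → F}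
    (hQ : ∀ v, Q v = v ⬝ᵥ D *ᵥ v) (g : Matrix.GeneralLinearGroup ι F) :
    g ∈ Cfsg.isometryGroup F Q ↔ (g : Matrix ι ι F)ᵀ * D * g = D := by
  have key : ∀ (A : Matrix ι ι F) (v : ι → F), Q (A *ᵥ v) = v ⬝ᵥ (Aᵀ * D * A) *ᵥ v := fun A v => by
    rw [hQ, Matrix.mul_assoc, ← mulVec_mulVec, ← mulVec_mulVec, dotProduct_mulVec v Aᵀ, vecMul_transpose]
  refine ⟨fun h => ?_, fun h u v => ?_⟩
  · have hv : ∀ v, Q ((g : Matrix ι ι F) *ᵥ v) = Q v := fun v => h v v
    have hs : ((g : Matrix ι ι F)ᵀ * D * (g : Matrix ι ι F))ᵀ = (g : Matrix ι ι F)ᵀ * D * (g : Matrix ι ι F) := by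
      simp [transpose_mul, hD, Matrix.mul_assoc]
    set M := (g : Matrix ι ι F)ᵀ * D * (g : Matrix ι ι F) - D with hM
    have hMs : ∀ i j, M j i = M i j := fun i j => by
      show Mᵀ i j = M i j
      rw [hM, transpose_sub, hs, hD]
    have h0 : ∀ v, v ⬝ᵥ M *ᵥ v = 0 := fun v => by
      rw [hM, sub_mulVec, dotProduct_sub, ← key, hv, hQ, sub_self]
    have hd : ∀ i, M i i = 0 := fun i => by
      have := h0 (Pi.single i 1)
      rwa [mulVec_single_one, single_dotProduct, one_mul] at this
    refine sub_eq_zero.1 (Matrix.ext fun i j => ?_)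
    rw [← hM, Matrix.zero_apply]
    have := h0 (Pi.single i 1 + Pi.single j 1)
    simp only [mulVec_add, mulVec_single_one, add_dotProduct, dotProduct_add, single_dotProduct, one_mul,
      Matrix.col_apply, hd, hMs i j, zero_add, add_zero] at this
    refine (mul_eq_zero.1 ?_).resolve_left h2
    linear_combination this
  · show Q ((g : Matrix ι ι F) *ᵥ u) = Q u
    rw [key, h, hQ]

variable [Fintype F]

/-- `q^n/2 ≤ k ≤ 19 q^n/2` for the orthogonal group in dimension `2n`. -/
theorem bounds (hodd : Odd (Fintype.card F)) {n : ℕ} (hn : 2 ≤ n) (hι : Fintype.card ι = 2 * n)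
    {D : Matrix ι ι F} (hD : Dᵀ = D) (hDu : D.det ≠ 0) {Q : (ι → F) → F}
    (hQ : ∀ v, Q v = v ⬝ᵥ D *ᵥ v) :
    Fintype.card F ^ n ≤ 2 * Nat.card (ConjClasses ↥(Cfsg.isometryGroup F Q)) ∧
      2 * Nat.card (ConjClasses ↥(Cfsg.isometryGroup F Q)) ≤ 19 * Fintype.card F ^ n := by
  classical
  obtain ⟨p, hchar⟩ := CharP.exists F
  haveI hpp : Fact p.Prime := ⟨CharP.char_is_prime F p⟩
  have hp : p ≠ 2 := by
    rintro rfl
    exact Nat.not_even_iff_odd.2 hodd (FiniteField.even_card_of_char_two (ringChar.eq F 2) |>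
      Nat.even_iff.2)
  have hF : ringChar F ≠ 2 := by rwa [ringChar.eq F p]
  have h2 : (2 : F) ≠ 0 := CfsgLib.SpUnip.two_ne_zero_char p hp
  have hq : 3 ≤ Fintype.card F := by
    have := Fintype.one_lt_card (α := F)
    obtain ⟨k, hk⟩ := hodd
    omega
  have hmem := mem_isometryGroup_iff h2 hD hQ
  refine ⟨?_, ?_⟩
  · obtain ⟨ν, hν⟩ := FiniteField.exists_nonsquare hF
    have hν0 : ν ≠ 0 := fun e => hν (e ▸ IsSquare.zero)
    let poly : degreeLT F n → F[X] := fun a => X ^ n + (a : F[X])
    have hlt : ∀ a : degreeLT F n, (a : F[X]).degree < n := fun a => mem_degreeLT.1 a.2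
    have hm : ∀ a, (poly a).Monic := fun a => monic_X_pow_add (hlt a)
    have hd : ∀ a, (poly a).natDegree = n := fun a => natDegree_eq_of_degree_eq_some (by
      rw [degree_add_eq_left_of_degree_lt (by rw [degree_X_pow]; exact hlt a), degree_X_pow])
    let cond : degreeLT F n → Prop := fun a => (poly a).eval 2 * (poly a).eval (-2) = 0 ∨
      IsSquare ((-1) ^ n * D.det * (poly a).eval 2 * (poly a).eval (-2))
    have hl : (X + C 2 : F[X]) ∈ degreeLT F n := mem_degreeLT.2 (by
      rw [degree_X_add_C]; exact_mod_cast (show 1 < n by omega))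
    let f : degreeLT F n → degreeLT F n := fun a =>
      a + ((ν - 1) * (poly a).eval 2 / 4) • ⟨X + C 2, hl⟩
    have h4 : (4 : F) ≠ 0 := by
      rw [show (4 : F) = 2 * 2 by norm_num]; exact mul_ne_zero h2 h2
    have f2 : ∀ a, (poly (f a)).eval 2 = ν * (poly a).eval 2 := fun a => by
      simp only [poly, f, Submodule.coe_add, Submodule.coe_smul, eval_add, eval_smul, eval_pow, eval_X,
        eval_C, smul_eq_mul]
      field_simp
      ring
    have fm2 : ∀ a, (poly (f a)).eval (-2) = (poly a).eval (-2) := fun a => by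
      simp only [poly, f, Submodule.coe_add, Submodule.coe_smul, eval_add, eval_smul, eval_pow, eval_X,
        eval_C, smul_eq_mul]
      ring
    have finj : Function.Injective f := fun a b hab => by
      have e : (poly a).eval 2 = (poly b).eval 2 := mul_left_cancel₀ hν0 (by rw [← f2, ← f2, hab])
      simp only [f, e] at hab
      exact add_right_cancel hab
    have fcond : ∀ a, ¬ cond a → cond (f a) := fun a ha => by
      simp only [cond, not_or] at ha
      refine Or.inr ?_
      rw [f2, fm2]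
      have hc0 : (-1) ^ n * D.det * (poly a).eval 2 * (poly a).eval (-2) ≠ 0 := fun e => ha.2 (e ▸ IsSquare.zero)
      have h1 := quadraticChar_neg_one_iff_not_isSquare.2 ha.2
      have h1' := quadraticChar_neg_one_iff_not_isSquare.2 hν
      have := (quadraticChar_one_iff_isSquare (mul_ne_zero hν0 hc0)).1 (by rw [map_mul, h1, h1']; norm_num)
      convert this using 1
      ring
    haveI : Finite (degreeLT F n) := Finite.of_equiv _ (degreeLTEquiv F n).symm.toEquiv
    haveI := Fintype.ofFinite (degreeLT F n)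
    have hcard : Fintype.card (degreeLT F n) = Fintype.card F ^ n := by
      rw [Fintype.card_congr (degreeLTEquiv F n).toEquiv, Fintype.card_fun, Fintype.card_fin]
    have hhalf : Fintype.card F ^ n ≤ 2 * Nat.card {a // cond a} := by
      rw [Nat.card_eq_fintype_card, Fintype.card_subtype, ← hcard, ← Finset.card_univ,
        ← Finset.card_filter_add_card_filter_not (s := Finset.univ) cond, two_mul]
      refine Nat.add_le_add_left ?_ _
      exact Finset.card_le_card_of_injOn f (fun a ha => by simpa using fcond a (by simpa using ha))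
        finj.injOn
    choose A A' hA hAD hAc using fun a : {a // cond a} => exists_elem h2 hι hD hDu (hm a.1) (hd a.1) a.2
    let g : {a // cond a} → ↥(Cfsg.isometryGroup F Q) := fun a =>
      ⟨⟨A a, A' a, hA a, mul_eq_one_comm.1 (hA a)⟩, (hmem _).2 (hAD a)⟩
    refine hhalf.trans (Nat.mul_le_mul_left 2 (Nat.card_le_card_of_injective (fun a => ConjClasses.mk (g a))
      fun a b hab => ?_))
    obtain ⟨c, hc⟩ := isConj_iff.1 (ConjClasses.mk_eq_mk_iff_isConj.1 hab)
    have e1 : (A b : Matrix ι ι F) + A' b =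
        ((c.1 : Matrix.GeneralLinearGroup ι F) : Matrix ι ι F) * (A a + A' a) *
          ((c.1 : Matrix.GeneralLinearGroup ι F)⁻¹ : Matrix.GeneralLinearGroup ι F) := by
      rw [Matrix.mul_add, Matrix.add_mul]
      refine congrArg₂ (· + ·) (congrArg (fun x : ↥(Cfsg.isometryGroup F Q) => ((x.1 : Matrix.GeneralLinearGroup ι F) : Matrix ι ι F)) hc).symm ?_
      have hc' : c * (g a)⁻¹ * c⁻¹ = (g b)⁻¹ := by rw [← hc]; group
      exact (congrArg (fun x : ↥(Cfsg.isometryGroup F Q) => ((x.1 : Matrix.GeneralLinearGroup ι F) : Matrix ι ι F)) hc').symm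
    have e2 := congrArg Matrix.charpoly e1
    rw [Matrix.coe_units_inv, charpoly_units_conj, hAc, hAc] at e2
    have e3 : poly a.1 = poly b.1 := by
      refine ((sq_eq_sq_iff_eq_or_eq_neg.1 e2).resolve_right fun e => ?_).symm
      have := congrArg leadingCoeff e
      rw [leadingCoeff_neg, (hm _).leadingCoeff, (hm _).leadingCoeff] at this
      exact h2 (by linear_combination this)
    exact Subtype.ext (Subtype.ext (add_left_cancel e3))
  · obtain ⟨m, rfl⟩ : ∃ m, n = m + 1 := ⟨n - 1, by omega⟩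
    let B : (ι → F) →ₗ[F] (ι → F) →ₗ[F] F := Matrix.toLinearMap₂' F D
    have hu : ∀ g : ↥(Cfsg.isometryGroup F Q), IsUnit ((g.1 : Matrix.GeneralLinearGroup ι F) : Matrix ι ι F) :=
      fun g => Units.isUnit _
    let G : ↥(Cfsg.isometryGroup F Q) → ((ι → F) ≃ₗ[F] (ι → F)) := fun g =>
      LinearEquiv.ofInjectiveEndo (Matrix.mulVecLin (g.1 : Matrix ι ι F)) (Matrix.mulVec_injective_iff_isUnit.2 (hu g))
    have hG : ∀ g, IsSIsom B (G g) := fun g => by
      refine ⟨fun x y => ?_, fun v hv => ?_, fun x y => ?_⟩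
      · simp only [B, Matrix.toLinearMap₂'_apply']
        conv_lhs => rw [dotProduct_mulVec, ← mulVec_transpose, hD, dotProduct_comm]
      · have hz : v ᵥ* D = 0 := funext fun i => by
          have := hv (Pi.single i 1)
          rwa [Matrix.toLinearMap₂'_apply', dotProduct_mulVec, dotProduct_single, mul_one] at this
        exact Matrix.vecMul_injective_iff_isUnit.2 ((Matrix.isUnit_iff_isUnit_det _).2
          (isUnit_iff_ne_zero.2 hDu)) (hz.trans (Matrix.zero_vecMul D).symm)
      · show Matrix.toLinearMap₂' F D ((g.1 : Matrix ι ι F) *ᵥ x) ((g.1 : Matrix ι ι F) *ᵥ y) = Matrix.toLinearMap₂' F D x y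
        rw [Matrix.toLinearMap₂'_apply', Matrix.toLinearMap₂'_apply']
        conv_rhs => rw [← (hmem _).1 g.2]
        rw [Matrix.mul_assoc, ← mulVec_mulVec, ← mulVec_mulVec,
          dotProduct_mulVec x ((g.1 : Matrix ι ι F))ᵀ, vecMul_transpose]
    have hdim : Module.finrank F (ι → F) = 2 * (m + 1) := by rw [Module.finrank_pi, hι]
    haveI : Finite (ConjClasses ↥(Cfsg.isometryGroup F Q)) :=
      Finite.of_surjective _ ConjClasses.mk_surjective
    haveI := Fintype.ofFinite (ConjClasses ↥(Cfsg.isometryGroup F Q))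
    choose x hx hxd using fun c : ConjClasses ↥(Cfsg.isometryGroup F Q) =>
      exists_data h2 (hG (Quotient.out c)) hdim
    refine card_data_le h2 hq m x hx (fun c c' hcc => ?_)
      (fun c c' ho e => flip_not_data p hp (hG _) (hG _) ho (hxd c) (e ▸ hxd c'))
    obtain ⟨T, hT, hTB⟩ := data_intertwine p hp (hG _) (hG _) (hxd c) (hcc ▸ hxd c')
    let TM : Matrix.GeneralLinearGroup ι F :=
      ⟨LinearMap.toMatrix' T.toLinearMap, LinearMap.toMatrix' T.symm.toLinearMap,
        by rw [← LinearMap.toMatrix'_comp, LinearEquiv.comp_symm, LinearMap.toMatrix'_id],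
        by rw [← LinearMap.toMatrix'_comp, LinearEquiv.symm_comp, LinearMap.toMatrix'_id]⟩
    have hTQ : TM ∈ Cfsg.isometryGroup F Q := fun u v => by
      show Q (LinearMap.toMatrix' T.toLinearMap *ᵥ u) = Q u
      rw [LinearMap.toMatrix'_mulVec, hQ, hQ, ← Matrix.toLinearMap₂'_apply', ← Matrix.toLinearMap₂'_apply']
      exact hTB u u
    rw [← Quotient.out_eq c, ← Quotient.out_eq c']
    refine ConjClasses.mk_eq_mk_iff_isConj.2 (isConj_iff.2 ⟨⟨TM, hTQ⟩,
      mul_inv_eq_iff_eq_mul.2 (Subtype.ext (Units.ext ?_))⟩)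
    refine Matrix.ext_iff_mulVec.2 fun v => ?_
    show (LinearMap.toMatrix' T.toLinearMap * ((Quotient.out c).1 : Matrix ι ι F)) *ᵥ v =
      (((Quotient.out c').1 : Matrix ι ι F) * LinearMap.toMatrix' T.toLinearMap) *ᵥ v
    rw [← mulVec_mulVec, ← mulVec_mulVec, LinearMap.toMatrix'_mulVec, LinearMap.toMatrix'_mulVec]
    exact hT v

end CfsgLib.OClassNum
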